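import Cfsg.Agent.H802.TE.Defs
import Cfsg.Agent.H218.Fus.PFf
import Cfsg.Agent.S0013

/-!
# S5261 engine: StPhi, StCh, StHull
-/

set_option autoImplicit false
set_option linter.unusedVariables false

namespace Cfsg.Agent.H218.TE

open Cfsg Cfsg.FusionSystem Cfsg.Agent.H756.PU Cfsg.Agent.H802 Cfsg.Agent.H802.TE Cfsg.Agent.H218.Fus

universe u

theorem Phi_eq {Ω : Type*} [Group Ω] (E : Subgroup Ω) : Phi E = phi E := rfl

/-- conjugation by an element of the normalizer preserves `Φ(E)` -/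
theorem conj_phi {Ω : Type*} [Group Ω] {E : Subgroup Ω} {x : Ω} (hx : x ∈ Subgroup.normalizer (E : Set Ω)) {y : Ω}
    (hy : y ∈ phi E) : x * y * x⁻¹ ∈ phi E := by
  obtain ⟨α, hα⟩ := exists_conjAut hx
  obtain ⟨e, he, rfl⟩ := hy
  have h1 := (inv_phi (⊤ : Subgroup (MulAut E))).2 α (Subgroup.mem_top _) e (mem_phi.2 he)
  rw [hα] at h1
  exact h1

/-- (F) -/
theorem stPhi : StPhi.{u} := by
  intro Ω _ E p hp hfin hE
  have : Fact p.Prime := ⟨hp⟩
  obtain ⟨h1, h2⟩ := Cfsg.Agent.S0012.result (G := E) p hE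
  refine ⟨phi_le E, ?_, ?_, ?_, fun Γ => inv_phi Γ, fun x hx y hy => conj_phi hx hy⟩
  · intro a ha b hb
    exact ⟨_, h1 (Subgroup.commutator_mem_commutator (Subgroup.mem_top ⟨a, ha⟩) (Subgroup.mem_top ⟨b, hb⟩)), rfl⟩
  · intro a ha
    exact ⟨_, h2 ⟨a, ha⟩, rfl⟩
  · intro N hN hc hpw
    have hNn : (N.subgroupOf E).Normal := by
      constructor
      intro x hx g
      rw [Subgroup.mem_subgroupOf] at hx ⊢
      have h3 := mul_mem (hc g g.2 x x.2) hx
      rw [inv_mul_cancel_right] at h3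
      exact h3
    have h3 := Cfsg.Agent.S0013.result (G := E) p hE (N.subgroupOf E) (by
      rw [commutator_def, Subgroup.commutator_le]
      intro a _ b _
      rw [Subgroup.mem_subgroupOf]
      exact hc a a.2 b b.2) (fun x => Subgroup.mem_subgroupOf.2 (hpw x x.2))
    rintro _ ⟨e, he, rfl⟩
    exact Subgroup.mem_subgroupOf.1 (h3 he)

/-- elements `A` with `[A, E] ≤ E` normalize `E` -/
theorem le_norm {Ω : Type*} [Group Ω] {S E A : Subgroup Ω} (hfin : Finite E) (hA : A ≤ S)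
    (h : ∀ a ∈ A, ∀ e ∈ E, a * e * a⁻¹ * e⁻¹ ∈ E) : A ≤ normalizerIn S E := by
  intro a ha
  refine ⟨hA ha, ?_⟩
  show a ∈ Subgroup.normalizer (E : Set Ω)
  rw [Subgroup.mem_normalizer_iff]
  intro x
  constructor
  · intro hx
    have h1 := mul_mem (h a ha x hx) hx
    rwa [inv_mul_cancel_right] at h1
  · intro hx
    have h1 := mul_mem (h a⁻¹ (inv_mem ha) _ hx) hx
    rw [inv_mul_cancel_right] at h1
    have e1 : a⁻¹ * (a * x * a⁻¹) * a⁻¹⁻¹ = x := by group
    rwa [e1] at h1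

/-- (CH) -/
theorem stCh : StCh.{u} := by
  intro Ω _ S E p Γ h n M h0 hn hInv hle A hA hAM
  have hfin := finE h
  have hN : A ≤ normalizerIn S E := by
    refine le_norm hfin hA fun a ha e he => ?_
    rcases Nat.eq_zero_or_pos n with h1 | h1
    · subst h1
      -- then `E = M 0 ≤ Φ(E)`
      exfalso
      obtain ⟨H, hHΓ, hHne, hTH, hTI, hse⟩ := h.spe
      apply hTI
      have h2 : E ≤ phi E := by rw [← hn]; rw [Phi_eq] at h0; exact hn ▸ h0
      have h3 : frattini E = ⊤ := by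
        rw [eq_top_iff]
        intro x _
        exact mem_phi.1 (h2 x.2)
      have hp : Fact p.Prime := ⟨h.pp⟩
      have h4 : IsPGroup p (trv Γ (inv_E Γ) (inv_phi Γ)) := isPGroup_trv_phi h Γ
      have h5 := le_inn_Γ h (K := trv Γ (inv_E Γ) (inv_phi Γ)) (fun γ hγ => hγ.1)
        (fun g hg γ hγ => trv_conj _ _ hg hγ) h4
      intro t ht
      refine h5 ⟨h.indu ht, fun e he => ?_⟩
      rw [show (((t e : E) : Ω) * (e : Ω)⁻¹) = ((t e * e⁻¹ : E) : Ω) from rfl, mem_phi, h3]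
      trivial
    · have h2 := hAM (n - 1) (by omega)
      rw [show n - 1 + 1 = n by omega, hn] at h2
      exact (hInv (n - 1) (by omega)).1 (h2 a ha e he)
  refine ch_gen h le_rfl h.indu (fun g hg x hx => mul_mem (mul_mem hg hx) (inv_mem hg)) (m := n)
    (W := fun i => M (n - i)) (by simpa using hn) (fun i hi => hInv _ (by omega)) (by
      show M (n - n) ≤ phi E
      rw [Nat.sub_self]; exact h0) hN ?_
  intro i hi
  have h2 := hAM (n - (i + 1)) (by omega)
  rw [show n - (i + 1) + 1 = n - i by omega] at h2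
  exact h2

/-- (HULL) -/
theorem stHull : StHull.{u} := by
  intro Ω _ S E p Γ h A Y hA hY hAY hAE
  by_contra hcon
  push Not at hcon
  apply hAE
  have hfin := finE h
  -- the hull
  set U : Subgroup Ω := Subgroup.closure {y : Ω | ∃ γ ∈ Γ, ∃ e : E, (e : Ω) ∈ Y ∧ y = ((γ e : E) : Ω)} with hU
  have hUE : U ≤ E := by
    rw [hU, Subgroup.closure_le]
    rintro _ ⟨γ, _, e, _, rfl⟩
    exact (γ e).2
  have hUinv : Inv Γ U := by
    refine ⟨hUE, fun γ hγ e he => ?_⟩
    have h1 : U ≤ ((U.subgroupOf E).comap γ.toMonoidHom).map E.subtype := by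
      refine (Subgroup.closure_le _).2 ?_
      rintro _ ⟨δ, hδ, f, hf, rfl⟩
      refine ⟨δ f, ?_, rfl⟩
      rw [SetLike.mem_coe, Subgroup.mem_comap, Subgroup.mem_subgroupOf]
      exact Subgroup.subset_closure ⟨γ * δ, mul_mem hγ hδ, f, hf, rfl⟩
    obtain ⟨e', he', hee⟩ := h1 he
    obtain rfl : e' = e := Subtype.ext hee
    exact he'
  have hYU : ∀ y ∈ Y, y ∈ U := fun y hy =>
    Subgroup.subset_closure ⟨1, one_mem _, ⟨y, hY hy⟩, hy, rfl⟩
  have hinv2 : Inv Γ (U ⊔ phi E) := by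
    refine ⟨sup_le hUE (phi_le E), fun γ hγ e he => ?_⟩
    have h1 : U ⊔ phi E ≤ (((U ⊔ phi E).subgroupOf E).comap γ.toMonoidHom).map E.subtype := by
      refine sup_le ?_ ?_
      · intro x hx
        refine ⟨⟨x, hUE hx⟩, ?_, rfl⟩
        rw [SetLike.mem_coe, Subgroup.mem_comap, Subgroup.mem_subgroupOf]
        exact Subgroup.mem_sup_left (hUinv.2 γ hγ _ hx)
      · intro x hx
        refine ⟨⟨x, phi_le E hx⟩, ?_, rfl⟩
        rw [SetLike.mem_coe, Subgroup.mem_comap, Subgroup.mem_subgroupOf]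
        exact Subgroup.mem_sup_right ((inv_phi Γ).2 γ hγ _ hx)
    obtain ⟨e', he', hee⟩ := h1 he
    obtain rfl : e' = e := Subtype.ext hee
    exact he'
  have hN : A ≤ normalizerIn S E := le_norm hfin hA fun a ha e he => hY (hAY a ha e he)
  -- `[A, U Φ] ≤ Φ`
  have hAU : Com A (U ⊔ phi E) (phi E) := by
    intro a ha
    have hce := com_E h
    -- elements of `E` centralized by `a` modulo `Φ(E)`
    have han := (hN ha).2
    have hcent : ∀ x ∈ E, a * x * a⁻¹ ∈ E := fun x hx => (Subgroup.mem_normalizer_iff.1 han x).1 hx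
    have hphn : ∀ x ∈ E, ∀ y ∈ phi E, x * y * x⁻¹ ∈ phi E := fun x hx y hy =>
      conj_phi (Subgroup.le_normalizer hx) hy
    let C : Subgroup Ω := {
      carrier := {x | x ∈ E ∧ a * x * a⁻¹ * x⁻¹ ∈ phi E}
      one_mem' := ⟨one_mem _, by simp⟩
      mul_mem' := by
        rintro x y ⟨hx, hx'⟩ ⟨hy, hy'⟩
        refine ⟨mul_mem hx hy, ?_⟩
        have h1 := mul_mem hx' (hphn x hx _ hy')
        have e1 : a * x * a⁻¹ * x⁻¹ * (x * (a * y * a⁻¹ * y⁻¹) * x⁻¹) = a * (x * y) * a⁻¹ * (x * y)⁻¹ := by group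
        rwa [e1] at h1
      inv_mem' := by
        rintro x ⟨hx, hx'⟩
        refine ⟨inv_mem hx, ?_⟩
        have h1 := hphn x⁻¹ (inv_mem hx) _ (inv_mem hx')
        have e1 : x⁻¹ * (a * x * a⁻¹ * x⁻¹)⁻¹ * x⁻¹⁻¹ = a * x⁻¹ * a⁻¹ * x⁻¹⁻¹ := by group
        rwa [e1] at h1 }
    have h1 : U ⊔ phi E ≤ C := by
      refine sup_le ?_ ?_
      · rw [hU, Subgroup.closure_le]
        rintro _ ⟨γ, hγ, y, hy, rfl⟩
        exact ⟨(γ y).2, hcon γ hγ y hy a ha⟩
      · intro x hx
        exact ⟨phi_le E hx, mul_mem (conj_phi han hx) (inv_mem hx)⟩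
    exact fun m hm => (h1 hm).2
  refine ch_gen h le_rfl h.indu (fun g hg x hx => mul_mem (mul_mem hg hx) (inv_mem hg)) (m := 2)
    (W := fun i => if i = 0 then E else if i = 1 then U ⊔ phi E else phi E) (by simp) ?_ (by simp) hN ?_
  · intro i _
    by_cases h1 : i = 0
    · simp only [h1, if_true]; exact inv_E Γ
    by_cases h2 : i = 1
    · simp only [h2, one_ne_zero, if_false, if_true]; exact hinv2
    · simp only [h1, h2, if_false]; exact inv_phi Γ
  · intro i hi
    have : i = 0 ∨ i = 1 := by omega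
    rcases this with rfl | rfl
    · simp only [if_true, zero_add, one_ne_zero, if_false]
      exact fun a ha e he => Subgroup.mem_sup_left (hYU _ (hAY a ha e he))
    · simp only [one_ne_zero, if_false, if_true]
      exact hAU

end Cfsg.Agent.H218.TE
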