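import Cfsg.Agent.H218.TE.Basic

/-!
# S5261 engine: StL, StConj, StCm
-/

set_option autoImplicit false
set_option linter.unusedVariables false

namespace Cfsg.Agent.H218.TE

open Cfsg Cfsg.FusionSystem Cfsg.Agent.H756.PU Cfsg.Agent.H802 Cfsg.Agent.H802.TE Cfsg.Agent.H218.Fus

universe u

/-- a normal subgroup of `Γ` containing `Aut_S(E)` is again of the form `Ess` -/
theorem ess_normal {Ω : Type*} [Group Ω] {S E : Subgroup Ω} {p : ℕ} {Γ L : Subgroup (MulAut E)} (h : Ess S E p Γ)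
    (hLΓ : L ≤ Γ) (hTL : autInducedBy S E ≤ L) (hL : ∀ g ∈ Γ, ∀ x ∈ L, g * x * g⁻¹ ∈ L) : Ess S E p L := by
  classical
  have hfin := finE h
  have hp : Fact p.Prime := ⟨h.pp⟩
  refine ⟨h.pp, h.fin, h.pgr, h.E_le, h.cent, hTL, ?_, ?_⟩
  · intro P hP hPp
    -- `T` is a Sylow subgroup of `L`
    have hTp : IsPGroup p ((autInducedBy S E).subgroupOf L) := (isPGroup_T h).comap_subtype
    obtain ⟨R, hR⟩ := hTp.exists_le_sylow
    have hRT : (autInducedBy S E).subgroupOf L = (R : Subgroup L) := by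
      apply Subgroup.eq_of_le_of_card_ge hR
      obtain ⟨g, hg, hgR⟩ := h.syl ((R : Subgroup L).map L.subtype) ((Subgroup.map_subtype_le _).trans hLΓ)
        (R.isPGroup'.map _)
      refine Nat.card_le_card_of_injective (fun x : (R : Subgroup L) => (⟨⟨g * (x : L) * g⁻¹, ?_⟩, ?_⟩ :
        (autInducedBy S E).subgroupOf L)) ?_
      · exact hL g hg _ (x : L).2
      · rw [Subgroup.mem_subgroupOf]
        exact hgR _ ⟨x, x.2, rfl⟩
      · intro x y hxy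
        have h1 : g * ((x : L) : MulAut E) * g⁻¹ = g * ((y : L) : MulAut E) * g⁻¹ :=
          congrArg (fun z : (autInducedBy S E).subgroupOf L => ((z : L) : MulAut E)) hxy
        have h2 : ((x : L) : MulAut E) = ((y : L) : MulAut E) := mul_left_cancel (mul_right_cancel h1)
        exact Subtype.ext (Subtype.ext h2)
    have hPp' : IsPGroup p (P.subgroupOf L) := hPp.comap_subtype
    obtain ⟨Q, hQ⟩ := hPp'.exists_le_sylow
    obtain ⟨g, hg⟩ := MulAction.exists_smul_eq L Q R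
    refine ⟨g, g.2, fun x hx => ?_⟩
    have h1 : (⟨x, hP hx⟩ : L) ∈ (Q : Subgroup L) := hQ (Subgroup.mem_subgroupOf.2 hx)
    have h2 : g * (⟨x, hP hx⟩ : L) * g⁻¹ ∈ ((g • Q : Sylow p L) : Subgroup L) := by
      rw [Sylow.coe_subgroup_smul]
      exact ⟨⟨x, hP hx⟩, h1, rfl⟩
    rw [hg, ← hRT, Subgroup.mem_subgroupOf] at h2
    exact h2
  · obtain ⟨H, hHΓ, hHne, hTH, hTI, hse⟩ := h.spe
    obtain ⟨g₀, hg₀L, hg₀H⟩ := exists_not_mem h hHΓ hHne hTH hTI hse hLΓ hTL hL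
    refine ⟨H ⊓ L, inf_le_right, fun h1 => ?_, le_inf hTH hTL, hTI, ?_⟩
    · rw [← h1] at hg₀L
      exact hg₀H hg₀L.1
    · intro g hg hgH x hx hgx hxp
      exact hse g (hLΓ hg) (fun h1 => hgH ⟨h1, hg⟩) x hx.1 hgx.1 hxp

/-- (L) -/
theorem stL : StL.{u} := by
  intro Ω _ S E p Γ h
  have h1 := ess_normal h (pec_le p Γ) (T_le_pec h) (fun g hg x hx => pec_conj p Γ hg hx)
  refine ⟨pElementClosure p Γ, pec_le p Γ, h1, ?_⟩
  intro N M hN hM _ _ hT γ hγ
  have h2 : pElementClosure p Γ ≤ pElementClosure p (pElementClosure p Γ) := by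
    conv_lhs => unfold pElementClosure
    rw [Subgroup.closure_le]
    rintro x ⟨hx, k, hk⟩
    exact mem_pec h.pp (mem_pec h.pp hx ⟨k, by rw [← hk, pow_orderOf_eq_one]⟩) ⟨k, by rw [← hk, pow_orderOf_eq_one]⟩
  exact tr h1 hN hM hT γ (h2 hγ)

/-- (CM) -/
theorem stCm : StCm.{u} := by
  intro Ω _ S E p Γ h Γ0 A hA hAE hcomm
  have hfin := finE h
  have hp : Fact p.Prime := ⟨h.pp⟩
  obtain ⟨H, hHΓ, hHne, hTH, hTI, hse⟩ := h.spe
  obtain ⟨a, ha, haE⟩ : ∃ a ∈ A, a ∉ E := by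
    by_contra hcon
    push Not at hcon
    exact hAE hcon
  obtain ⟨α, hα, hαa⟩ := exists_isC h (hA ha)
  have hαI : α ∉ Inn E := fun h1 => haE (mem_of_inn h (hA ha).1 hαa h1)
  obtain ⟨n, hn⟩ := isPGroup_T h ⟨α, hα⟩
  have hn : α ^ p ^ n = 1 := congrArg Subtype.val hn
  have key : ∀ g ∈ Γ, g ∉ Γ0 → g ∈ H := by
    intro g hg hg0
    by_contra hgH
    -- the commutator is in `Inn(E)`
    have hk : α * (g * α * g⁻¹) * α⁻¹ * (g * α * g⁻¹)⁻¹ ∈ Inn E := by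
      refine le_inn_Γ h (K := trv Γ (inv_E Γ) (inv_phi Γ)) (fun γ hγ => hγ.1)
        (fun g hg γ hγ => trv_conj _ _ hg hγ) (isPGroup_trv_phi h Γ) ?_
      have hαΓ := h.indu hα
      have hβΓ : g * α * g⁻¹ ∈ Γ := mul_mem (mul_mem hg hαΓ) (inv_mem hg)
      exact ⟨mul_mem (mul_mem (mul_mem hαΓ hβΓ) (inv_mem hαΓ)) (inv_mem hβΓ),
        fun e _ => hcomm g hg hg0 a ha a ha e α α hαa hαa⟩
    set β := g * α * g⁻¹ with hβ
    -- `β α β⁻¹ ∈ H`
    have hβH : β ∈ H := by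
      by_contra hβH
      apply hαI
      refine hse β (mul_mem (mul_mem hg (h.indu hα)) (inv_mem hg)) hβH α (hTH hα) ?_ ⟨n, hn⟩
      have h1 : (α * β * α⁻¹ * β⁻¹)⁻¹ * α ∈ H := mul_mem (inv_mem (hTH (inn_le_T h hk))) (hTH hα)
      have e1 : (α * β * α⁻¹ * β⁻¹)⁻¹ * α = β * α * β⁻¹ := by group
      rwa [e1] at h1
    exact hαI (hse g hg hgH α (hTH hα) hβH ⟨n, hn⟩)
  -- `Γ = H ∪ (Γ ∩ Γ0)`
  by_contra hcon
  obtain ⟨x, hxΓ, hx0⟩ : ∃ x ∈ Γ, x ∉ Γ0 := by
    by_contra h1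
    push Not at h1
    exact hcon h1
  obtain ⟨y, hyΓ, hyH⟩ : ∃ y ∈ Γ, y ∉ H := by
    by_contra h1
    push Not at h1
    exact hHne (le_antisymm hHΓ h1)
  have hxH := key x hxΓ hx0
  have hy0 : y ∈ Γ0 := by
    by_contra h1
    exact hyH (key y hyΓ h1)
  have hxy0 : x * y ∉ Γ0 := fun h1 => hx0 (by
    have h2 := mul_mem h1 (inv_mem hy0)
    rwa [mul_inv_cancel_right] at h2)
  have hxyH := key _ (mul_mem hxΓ hyΓ) hxy0
  have h2 := mul_mem (inv_mem hxH) hxyH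
  rw [inv_mul_cancel_left] at h2
  exact hyH h2

/-- (CJ) -/
theorem stConj : StConj.{u} := by
  intro Ω _ S E p Γ h g hg
  set E' := E.map (MulAut.conj g).toMonoidHom with hE'
  let e : E ≃* E' := E.equivMapOfInjective (MulAut.conj g).toMonoidHom (MulAut.conj g).injective
  have he : ∀ x : E, ((e x : E') : Ω) = g * x * g⁻¹ := fun x => rfl
  have hes : ∀ x : E', ((e.symm x : E) : Ω) = g⁻¹ * x * g := by
    intro x
    have h1 := he (e.symm x)
    rw [MulEquiv.apply_symm_apply] at h1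
    rw [h1]; group
  let Φ : MulAut E ≃* MulAut E' := MulAut.congr e
  have hΦ : ∀ (α : MulAut E) (x : E'), Φ α x = e (α (e.symm x)) := fun α x => rfl
  have hmapT : ∀ α : MulAut E, α ∈ autInducedBy S E ↔ Φ α ∈ autInducedBy S E' := by
    intro α
    rw [mem_autInducedBy_iff, mem_autInducedBy_iff]
    constructor
    · rintro ⟨x, hx, hxα⟩
      refine ⟨g * x * g⁻¹, mul_mem (mul_mem hg hx) (inv_mem hg), fun y => ?_⟩
      rw [hΦ, he, hxα, hes]; group
    · rintro ⟨x, hx, hxα⟩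
      refine ⟨g⁻¹ * x * g, mul_mem (mul_mem (inv_mem hg) hx) hg, fun y => ?_⟩
      have h1 := hxα (e y)
      rw [hΦ, MulEquiv.symm_apply_apply, he, he] at h1
      have h2 : ((α y : E) : Ω) = g⁻¹ * (g * ((α y : E) : Ω) * g⁻¹) * g := by group
      rw [h2, h1]; group
  have hmapI : ∀ α : MulAut E, α ∈ Inn E ↔ Φ α ∈ Inn E' := by
    intro α
    constructor
    · rintro ⟨x, rfl⟩
      refine ⟨e x, ?_⟩
      ext y
      rw [hΦ]
      show (e x * y * (e x)⁻¹ : E') = (e (x * e.symm y * x⁻¹) : Ω)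
      rw [map_mul, map_mul, map_inv, MulEquiv.apply_symm_apply]
    · rintro ⟨x, hx⟩
      refine ⟨e.symm x, ?_⟩
      apply Φ.injective
      rw [← hx]
      ext y
      rw [hΦ]
      show (e (e.symm x * e.symm y * (e.symm x)⁻¹) : Ω) = (x * y * x⁻¹ : E')
      rw [map_mul, map_mul, map_inv, MulEquiv.apply_symm_apply, MulEquiv.apply_symm_apply]
  refine ⟨Γ.map Φ.toMonoidHom, h.pp, h.fin, h.pgr, ?_, ?_, ?_, ?_, ?_⟩
  · rintro _ ⟨x, hx, rfl⟩
    exact mul_mem (mul_mem hg (h.E_le hx)) (inv_mem hg)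
  · intro x hx hxc
    have h1 := h.cent (g⁻¹ * x * g) (mul_mem (mul_mem (inv_mem hg) hx) hg) (by
      intro y hy
      have h2 := hxc _ (Subgroup.mem_map_of_mem (MulAut.conj g).toMonoidHom hy)
      have h3 : x * (g * y * g⁻¹) = g * y * g⁻¹ * x := h2
      calc g⁻¹ * x * g * y = g⁻¹ * (x * (g * y * g⁻¹)) * g := by group
        _ = g⁻¹ * (g * y * g⁻¹ * x) * g := by rw [h3]
        _ = y * (g⁻¹ * x * g) := by group)
    refine ⟨g⁻¹ * x * g, h1, ?_⟩
    show g * (g⁻¹ * x * g) * g⁻¹ = x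
    group
  · intro α hα
    have h1 : Φ (Φ.symm α) ∈ autInducedBy S E' := by rwa [MulEquiv.apply_symm_apply]
    exact ⟨Φ.symm α, h.indu ((hmapT _).2 h1), MulEquiv.apply_symm_apply Φ α⟩
  · intro P hP hPp
    obtain ⟨x, hx, hxP⟩ := h.syl (P.comap Φ.toMonoidHom) (by
      intro α hα
      obtain ⟨β, hβ, hβα⟩ := hP hα
      obtain rfl : β = α := Φ.injective hβα
      exact hβ) (hPp.comap_of_injective Φ.toMonoidHom Φ.injective)
    refine ⟨Φ x, ⟨x, hx, rfl⟩, fun y hy => ?_⟩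
    have h1 : Φ.symm y ∈ P.comap Φ.toMonoidHom := by
      rw [Subgroup.mem_comap]
      show Φ (Φ.symm y) ∈ P
      rwa [MulEquiv.apply_symm_apply]
    have h2 := (hmapT _).1 (hxP _ h1)
    rw [map_mul, map_mul, map_inv, MulEquiv.apply_symm_apply] at h2
    exact h2
  · obtain ⟨H, hHΓ, hHne, hTH, hTI, hse⟩ := h.spe
    refine ⟨H.map Φ.toMonoidHom, Subgroup.map_mono hHΓ, ?_, ?_, ?_, ?_⟩
    · intro h1
      exact hHne (Subgroup.map_injective Φ.injective h1)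
    · intro α hα
      have h1 : Φ (Φ.symm α) ∈ autInducedBy S E' := by rwa [MulEquiv.apply_symm_apply]
      exact ⟨Φ.symm α, hTH ((hmapT _).2 h1), MulEquiv.apply_symm_apply Φ α⟩
    · intro h1
      apply hTI
      intro α hα
      exact (hmapI α).2 (h1 ((hmapT α).1 hα))
    · rintro _ ⟨x, hx, rfl⟩ hxH _ ⟨y, hy, rfl⟩ hxy ⟨k, hk⟩
      refine (hmapI y).1 (hse x hx (fun h1 => hxH ⟨x, h1, rfl⟩) y hy ?_ ⟨k, ?_⟩)
      · obtain ⟨z, hz, hze⟩ := hxy
        have h1 : Φ z = Φ (x * y * x⁻¹) := by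
          rw [map_mul, map_mul, map_inv]; exact hze
        rw [← Φ.injective h1]
        exact hz
      · apply Φ.injective
        rw [map_pow, map_one]
        exact hk

end Cfsg.Agent.H218.TE
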