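import Cfsg.Agent.H218.TE.Sq
import Cfsg.Agent.H218.TE.Basic

/-!
# S5261 engine: StP2, StP2c, StP2w, StBd, StSecC, StSecW from S3083
-/

set_option autoImplicit false
set_option linter.unusedVariables false

namespace Cfsg.Agent.H218.TE

open Cfsg Cfsg.FusionSystem Cfsg.Agent.H756.PU Cfsg.Agent.H802 Cfsg.Agent.H802.TE Cfsg.Agent.H218.Fus
open Cfsg.Agent.H218.Count Cfsg.Agent.H218.CountQ Cfsg.Agent.H218.Glob

universe u

/-- the general inequality on a section -/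
theorem sec_p2 (hSQ : StSQ.{u}) {Ω : Type u} [Group Ω] {S E : Subgroup Ω} {p : ℕ} {Γ : Subgroup (MulAut E)}
    (h : Ess S E p Γ) {W0 W A B : Subgroup Ω} (hW0 : Inv Γ W0) (hW : Inv Γ W) (hle : W0 ≤ W)
    (hEW : Com E W W0) (hWp : ∀ w ∈ W, w ^ p ∈ W0)
    (hf : ∀ x ∈ normalizerIn S E, (∀ w ∈ W, x * w * x⁻¹ * w⁻¹ ∈ W0) → x ∈ E)
    (hker : (∀ γ ∈ Γ, (∀ e : E, (e : Ω) ∈ W → ((γ e : E) : Ω) * (e : Ω)⁻¹ ∈ W0) → γ ∈ Inn E) ∨
      ∃ A0 : Subgroup Ω, A0 ≤ normalizerIn S E ∧ Com A0 A0 E ∧ (∀ x ∈ A0, x ^ p ∈ E) ∧ p < E.relIndex A0)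
    (hA : A ≤ normalizerIn S E) (hB : B ≤ normalizerIn S E) (hBE : ¬ B ≤ E) :
    ∃ fA fB cA cB : ℕ, (E.relIndex A) ^ 2 ≤ fA * fB ∧ (E.relIndex A) ^ 2 ≤ cA * cB ∧
      (E.relIndex A) ^ 2 ≤ W0.relIndex W ∧
      (∀ K : Subgroup Ω, K ≤ W → Com A K W0 → fA ≤ K.relIndex W) ∧
      (∀ K : Subgroup Ω, K ≤ W → Com B K W0 → fB ≤ K.relIndex W) ∧
      (∀ V : Subgroup Ω, V ≤ W → Com A W V → cA ≤ W0.relIndex V) ∧
      (∀ V : Subgroup Ω, V ≤ W → Com B W V → cB ≤ W0.relIndex V) ∧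
      (∀ b : Ω, B = Subgroup.zpowers b → cB = fB) := by
  classical
  have hp : Fact p.Prime := ⟨h.pp⟩
  have hfE := finE h
  have hfW : Finite W := Finite.of_injective (Subgroup.inclusion hW.1) (Subgroup.inclusion_injective _)
  have hN := normal_sub h hW0 hW.1
  have hc : Com W W W0 := fun a ha m hm => hEW a (hW.1 ha) m hm
  let := cgS hN hc
  let := actS hN hc hW0 hW
  obtain ⟨H, hHΓ, hHne, hTH, hTI, hse⟩ := h.spe
  have hI : ((Inn E).subgroupOf Γ).Normal := inferInstance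
  have hsm : ∀ (γ : Γ) (w : W), γ • (Additive.ofMul (QuotientGroup.mk w) : Additive (W ⧸ W0.subgroupOf W)) =
    Additive.ofMul (QuotientGroup.mk (res hW γ w)) := fun γ w => rfl
  have hsub : ∀ (γ : Γ) (w : W), γ • (Additive.ofMul (QuotientGroup.mk w) : Additive (W ⧸ W0.subgroupOf W)) -
    Additive.ofMul (QuotientGroup.mk w) = Additive.ofMul (QuotientGroup.mk (res hW γ w * w⁻¹)) := by
    intro γ w
    rw [sub_eq_add_neg]; rfl
  have hsmi : ∀ (γ : Γ) (w : W), γ • (Additive.ofMul (QuotientGroup.mk w) : Additive (W ⧸ W0.subgroupOf W)) =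
      Additive.ofMul (QuotientGroup.mk w) ↔ ((res hW γ w : W) : Ω) * (w : Ω)⁻¹ ∈ W0 := by
    intro γ w
    rw [hsm, Additive.ofMul.apply_eq_iff_eq, QuotientGroup.eq_iff_div_mem, Subgroup.mem_subgroupOf, div_eq_mul_inv]
    rfl
  have hSEm : SEm p ((Inn E).subgroupOf Γ) (H.subgroupOf Γ) := by
    refine ⟨fun x hx => ?_, ?_, ?_⟩
    · rw [Subgroup.mem_subgroupOf] at hx ⊢
      exact hTH (inn_le_T h hx)
    · by_contra hcon
      push Not at hcon
      apply hHne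
      apply le_antisymm hHΓ
      intro g hg
      have := hcon ⟨g, hg⟩
      rwa [Subgroup.mem_subgroupOf] at this
    · rintro q hq hqI ⟨k, hk⟩ g hg hmem
      rw [Subgroup.mem_subgroupOf] at hq hqI hg hmem
      exact hqI (hse g g.2 hg q hq hmem ⟨k, congrArg Subtype.val hk⟩)
  have hpM : ∀ m : Additive (W ⧸ W0.subgroupOf W), p • m = 0 := by
    intro m
    obtain ⟨w, hw⟩ := QuotientGroup.mk_surjective m.toMul
    obtain rfl : Additive.ofMul (QuotientGroup.mk w) = m := congrArg Additive.ofMul hw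
    rw [← ofMul_pow, ← QuotientGroup.mk_pow]
    refine congrArg Additive.ofMul ((QuotientGroup.eq_one_iff _).2 ?_)
    rw [Subgroup.mem_subgroupOf]
    exact hWp w w.2
  have hItriv : ∀ γ ∈ (Inn E).subgroupOf Γ, ∀ m : Additive (W ⧸ W0.subgroupOf W), γ • m = m := by
    intro γ hγ m
    obtain ⟨w, hw⟩ := QuotientGroup.mk_surjective m.toMul
    obtain rfl : Additive.ofMul (QuotientGroup.mk w) = m := congrArg Additive.ofMul hw
    rw [hsmi]
    rw [Subgroup.mem_subgroupOf] at hγ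
    obtain ⟨e, he⟩ := hγ
    rw [res_coe, ← he]
    exact hEW e e.2 w w.2
  have hfI : ∀ γ : Γ, (∀ m : Additive (W ⧸ W0.subgroupOf W), γ • m = m) → (∃ k, γ ^ p ^ k = 1) →
      γ ∈ (Inn E).subgroupOf Γ := by
    rintro γ hγ ⟨k, hk⟩
    rw [Subgroup.mem_subgroupOf]
    have hzp : IsPGroup p (Subgroup.zpowers (γ : MulAut E)) := by
      apply isPGroup_zpowers
      exact ⟨k, congrArg Subtype.val hk⟩
    obtain ⟨g, hg, hgx⟩ := h.syl _ ((Subgroup.zpowers_le).2 γ.2) hzp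
    have h1 := hgx _ (Subgroup.mem_zpowers _)
    obtain ⟨x, hx, hxc⟩ := (mem_autInducedBy_iff S E _).1 h1
    have hxE : x ∈ E := by
      refine hf x ⟨hx, mem_normalizer_of_aut hxc⟩ fun w hw => ?_
      have h2 := hγ ((⟨g, hg⟩ : Γ)⁻¹ • Additive.ofMul (QuotientGroup.mk ⟨w, hw⟩))
      rw [← mul_smul] at h2
      have h3 : ((⟨g, hg⟩ : Γ) * γ * (⟨g, hg⟩ : Γ)⁻¹) •
          (Additive.ofMul (QuotientGroup.mk ⟨w, hw⟩) : Additive (W ⧸ W0.subgroupOf W)) =
          Additive.ofMul (QuotientGroup.mk ⟨w, hw⟩) := by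
        rw [mul_assoc, mul_smul, h2, smul_inv_smul]
      rw [hsmi, res_coe] at h3
      have h4 := hxc ⟨w, hW.1 hw⟩
      have h5 : (((⟨g, hg⟩ : Γ) * γ * (⟨g, hg⟩ : Γ)⁻¹ : Γ) : MulAut E) = g * (γ : MulAut E) * g⁻¹ := rfl
      rw [h5, h4] at h3
      exact h3
    have h6 : g * (γ : MulAut E) * g⁻¹ ∈ Inn E := by
      refine ⟨⟨x, hxE⟩, ?_⟩
      ext e
      exact (hxc e).symm
    have h7 := (innNormal E).conj_mem _ h6 g⁻¹
    have e : g⁻¹ * (g * (γ : MulAut E) * g⁻¹) * g⁻¹⁻¹ = γ := by group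
    rwa [e] at h7
  have hrange : ∀ {C : Subgroup Ω} (hC : C ≤ normalizerIn S E), (cjA h hC).range ≤ H.subgroupOf Γ := by
    rintro C hC _ ⟨a, rfl⟩
    rw [Subgroup.mem_subgroupOf]
    exact hTH (cjA_mem_T h hC a)
  have hrangep : ∀ {C : Subgroup Ω} (hC : C ≤ normalizerIn S E), IsPGroup p (cjA h hC).range := by
    intro C hC
    have h1 : IsPGroup p C := h.pgr.to_le (hC.trans inf_le_left)
    exact h1.of_surjective (cjA h hC).rangeRestrict (cjA h hC).rangeRestrict_surjective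
  have hidx : ∀ {C : Subgroup Ω} (hC : C ≤ normalizerIn S E),
      ((Inn E).subgroupOf Γ).relIndex (cjA h hC).range = E.relIndex C := by
    intro C hC
    rw [← Subgroup.index_comap]
    unfold Subgroup.relIndex
    congr 1
    ext a
    rw [Subgroup.mem_comap, Subgroup.mem_subgroupOf, Subgroup.mem_subgroupOf, cjA_inn]
  have hkerX : ∀ γ : Γ, (∀ m : Additive (W ⧸ W0.subgroupOf W), γ • m = m) → γ ∈ H.subgroupOf Γ := by
    rcases hker with hk | ⟨A0, hA0, hA0c, hA0p, hA0i⟩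
    · intro γ hγ
      rw [Subgroup.mem_subgroupOf]
      refine hTH (inn_le_T h (hk γ γ.2 fun e he => ?_))
      have h1 := hγ (Additive.ofMul (QuotientGroup.mk ⟨e, he⟩))
      rw [hsmi] at h1
      exact h1
    · refine mod_kernel_le hSEm hItriv hfI (hrange hA0) ?_ ?_ ((hidx hA0).symm ▸ hA0i)
      · rintro _ ⟨a, rfl⟩ _ ⟨b, rfl⟩
        rw [← map_inv, ← map_inv, ← map_mul, ← map_mul, ← map_mul, Subgroup.mem_subgroupOf, cjA_inn]
        exact hA0c a a.2 b b.2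
      · rintro _ ⟨a, rfl⟩
        rw [← map_pow, Subgroup.mem_subgroupOf, cjA_inn]
        exact hA0p a a.2
  have hIp : IsPGroup p ((Inn E).subgroupOf Γ) := by
    have h1 : IsPGroup p (Inn E) := (isPGroup_T h).to_le (inn_le_T h)
    exact h1.comap_subtype
  have hmain := mod_p2 hSQ (M := Additive (W ⧸ W0.subgroupOf W)) (A := (cjA h hA).range) (B := (cjA h hB).range)
    hpM hSEm hIp hItriv hfI hkerX (hrange hA) (hrange hB) (hrangep hA) (hrangep hB) (by
      intro h1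
      apply hBE
      intro b hb
      have h2 := h1 ⟨⟨b, hb⟩, rfl⟩
      rw [Subgroup.mem_subgroupOf, cjA_inn] at h2
      exact h2)
  rw [hidx] at hmain
  have hfix : ∀ {C : Subgroup Ω} (hC : C ≤ normalizerIn S E) (K : Subgroup Ω), K ≤ W → Com C K W0 →
      (fx (Additive (W ⧸ W0.subgroupOf W)) (cjA h hC).range).index ≤ K.relIndex W := by
    intro C hC K hK hCK
    let F : Subgroup (W ⧸ W0.subgroupOf W) :=
      Subgroup.toAddSubgroup.symm (fx (Additive (W ⧸ W0.subgroupOf W)) (cjA h hC).range)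
    have h1 : (fx (Additive (W ⧸ W0.subgroupOf W)) (cjA h hC).range).index = F.index := rfl
    rw [h1]
    refine idx_le hN F ?_
    intro w hw
    rintro _ ⟨a, rfl⟩
    show (cjA h hC a) • (Additive.ofMul (QuotientGroup.mk w) : Additive (W ⧸ W0.subgroupOf W)) =
      Additive.ofMul (QuotientGroup.mk w)
    rw [hsmi]
    exact hCK a a.2 w hw
  have hcom : ∀ {C : Subgroup Ω} (hC : C ≤ normalizerIn S E) (V : Subgroup Ω), V ≤ W → Com C W V →
      Nat.card (cm (Additive (W ⧸ W0.subgroupOf W)) (cjA h hC).range) ≤ W0.relIndex V := by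
    intro C hC V hV hCV
    let F : Subgroup (W ⧸ W0.subgroupOf W) :=
      Subgroup.toAddSubgroup.symm (cm (Additive (W ⧸ W0.subgroupOf W)) (cjA h hC).range)
    have h1 : Nat.card (cm (Additive (W ⧸ W0.subgroupOf W)) (cjA h hC).range) = Nat.card F := rfl
    rw [h1]
    refine card_le hN hV F ?_
    have h2 : cm (Additive (W ⧸ W0.subgroupOf W)) (cjA h hC).range ≤ Subgroup.toAddSubgroup
        ((V.subgroupOf W).map (QuotientGroup.mk' (W0.subgroupOf W))) := by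
      unfold cm
      rw [AddSubgroup.closure_le]
      rintro _ ⟨_, ⟨a, rfl⟩, u, rfl⟩
      obtain ⟨w, hw⟩ := QuotientGroup.mk_surjective u.toMul
      obtain rfl : Additive.ofMul (QuotientGroup.mk w) = u := congrArg Additive.ofMul hw
      rw [hsub]
      refine ⟨res hW (cjA h hC a) w * w⁻¹, ?_, rfl⟩
      rw [SetLike.mem_coe, Subgroup.mem_subgroupOf]
      exact hCV a a.2 w w.2
    exact h2
  refine ⟨_, _, _, _, hmain.1, hmain.2.1, ?_, hfix hA, hfix hB, hcom hA, hcom hB, ?_⟩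
  · refine hmain.2.2.trans (le_of_eq ?_)
    rfl
  · intro b hb
    subst hb
    have h1 : (cjA h hB).range = Subgroup.zpowers (cjA h hB ⟨b, Subgroup.mem_zpowers b⟩) := by
      apply le_antisymm
      · rintro _ ⟨⟨c, n, hn⟩, rfl⟩
        refine ⟨n, ?_⟩
        show (cjA h hB ⟨b, Subgroup.mem_zpowers b⟩) ^ n = _
        rw [← map_zpow]
        congr 1
        exact Subtype.ext hn
      · rw [Subgroup.zpowers_le]
        exact ⟨_, rfl⟩
    rw [h1]
    exact card_cm_zpowers _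

end Cfsg.Agent.H218.TE
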