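import Cfsg.Agent.H218.TE.P2
import Cfsg.Agent.H218.TE.LCj

/-!
# S5261 engine: `eng_of : StSQ → Eng`
-/

set_option autoImplicit false
set_option linter.unusedVariables false

namespace Cfsg.Agent.H218.TE

open Cfsg Cfsg.FusionSystem Cfsg.Agent.H756.PU Cfsg.Agent.H802 Cfsg.Agent.H802.TE Cfsg.Agent.H218.Fus

universe u

theorem faithful_phi {Ω : Type*} [Group Ω] {S E : Subgroup Ω} {p : ℕ} {Γ : Subgroup (MulAut E)}
    (h : Ess S E p Γ) : ∀ γ ∈ Γ, (∀ e : E, (e : Ω) ∈ E → ((γ e : E) : Ω) * (e : Ω)⁻¹ ∈ phi E) → γ ∈ Inn E := by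
  intro γ hγ he
  exact le_inn_Γ h (K := trv Γ (inv_E Γ) (inv_phi Γ)) (fun γ hγ => hγ.1)
    (fun g hg γ hγ => trv_conj _ _ hg hγ) (isPGroup_trv_phi h Γ) ⟨hγ, he⟩

theorem relIndex_mono {Ω : Type*} [Group Ω] {Y Z W : Subgroup Ω} (hW : Finite W) (h : Y ≤ Z) :
    Z.relIndex W ≤ Y.relIndex W := by
  refine Subgroup.relIndex_le_of_le_left h ?_
  exact Subgroup.index_ne_zero_of_finite

theorem fin_le {Ω : Type*} [Group Ω] {E W : Subgroup Ω} (hE : Finite E) (h : W ≤ E) : Finite W :=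
  Finite.of_injective (Subgroup.inclusion h) (Subgroup.inclusion_injective _)

theorem stP2 (hSQ : StSQ.{u}) : StP2.{u} := by
  intro Ω _ S E p Γ h A B W W' Y Y' hA hB hBE hW hW' hAW hBW hY hY'
  have hfE := finE h
  obtain ⟨fA, fB, cA, cB, h1, h2, h3, h4, h5, h6, h7, h8⟩ := sec_p2 hSQ h (inv_phi Γ) (inv_E Γ) (phi_le E) (com_E h)
    (pow_E h) (phi_faithful h) (Or.inl (faithful_phi h)) hA hB hBE
  exact h2.trans (Nat.mul_le_mul ((h6 W hW hAW).trans (relIndex_mono (fin_le hfE hW) hY))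
    ((h7 W' hW' hBW).trans (relIndex_mono (fin_le hfE hW') hY')))

theorem stP2w (hSQ : StSQ.{u}) : StP2w.{u} := by
  intro Ω _ S E p Γ h A B X X' hA hB hBE hX hX' hAX hBX
  obtain ⟨fA, fB, cA, cB, h1, h2, h3, h4, h5, h6, h7, h8⟩ := sec_p2 hSQ h (inv_phi Γ) (inv_E Γ) (phi_le E) (com_E h)
    (pow_E h) (phi_faithful h) (Or.inl (faithful_phi h)) hA hB hBE
  exact h1.trans (Nat.mul_le_mul (h4 X hX hAX) (h5 X' hX' hBX))

theorem stP2c (hSQ : StSQ.{u}) : StP2c.{u} := by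
  intro Ω _ S E p Γ h A W Y X b hA hb hbE hW hAW hY hX hbX
  have hfE := finE h
  have hB : Subgroup.zpowers b ≤ normalizerIn S E := (Subgroup.zpowers_le).2 hb
  have hBE : ¬ Subgroup.zpowers b ≤ E := fun h1 => hbE (h1 (Subgroup.mem_zpowers b))
  obtain ⟨fA, fB, cA, cB, h1, h2, h3, h4, h5, h6, h7, h8⟩ := sec_p2 hSQ h (inv_phi Γ) (inv_E Γ) (phi_le E) (com_E h)
    (pow_E h) (phi_faithful h) (Or.inl (faithful_phi h)) hA hB hBE
  have hbX' : Com (Subgroup.zpowers b) X (phi E) := by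
    -- the elements `c` of `N(E)` centralizing `X` modulo `Φ(E)`; `X` may be enlarged to a `b`-invariant subgroup
    intro c hc x hx
    -- use the action on `E/Φ(E)`: elements fixing the coset of `x`
    let C : Subgroup Ω := {
      carrier := {c | c ∈ Subgroup.normalizer (E : Set Ω) ∧ c * x * c⁻¹ * x⁻¹ ∈ phi E}
      one_mem' := ⟨one_mem _, by simp⟩
      mul_mem' := by
        rintro c d ⟨hc, hc'⟩ ⟨hd, hd'⟩
        refine ⟨mul_mem hc hd, ?_⟩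
        have h1 := mul_mem (conj_phi hc hd') hc'
        have e : c * (d * x * d⁻¹ * x⁻¹) * c⁻¹ * (c * x * c⁻¹ * x⁻¹) = c * d * x * (c * d)⁻¹ * x⁻¹ := by group
        rwa [e] at h1
      inv_mem' := by
        rintro c ⟨hc, hc'⟩
        refine ⟨inv_mem hc, ?_⟩
        have h1 := conj_phi (inv_mem hc) (inv_mem hc')
        have e : c⁻¹ * (c * x * c⁻¹ * x⁻¹)⁻¹ * c⁻¹⁻¹ = c⁻¹ * x * c⁻¹⁻¹ * x⁻¹ := by group
        rwa [e] at h1 }
    have h9 : Subgroup.zpowers b ≤ C := (Subgroup.zpowers_le).2 ⟨hb.2, hbX x hx⟩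
    exact (h9 hc).2
  have h9 := h5 X hX hbX'
  rw [← h8 b rfl] at h9
  exact h2.trans (Nat.mul_le_mul ((h6 W hW hAW).trans (relIndex_mono (fin_le hfE hW) hY)) h9)

theorem stBd (hSQ : StSQ.{u}) : StBd.{u} := by
  intro Ω _ S E p Γ h A Y hA hY
  have hfE := finE h
  by_cases hAE : A ≤ E
  · have h1 : E.relIndex A = 1 := Subgroup.relIndex_eq_one.2 hAE
    rw [h1, one_pow]
    exact Nat.pos_of_ne_zero Subgroup.index_ne_zero_of_finite
  obtain ⟨fA, fB, cA, cB, h1, h2, h3, h4, h5, h6, h7, h8⟩ := sec_p2 hSQ h (inv_phi Γ) (inv_E Γ) (phi_le E) (com_E h)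
    (pow_E h) (phi_faithful h) (Or.inl (faithful_phi h)) hA hA hAE
  exact h3.trans (relIndex_mono hfE hY)

theorem stSecC (hSQ : StSQ.{u}) : StSecC.{u} := by
  intro Ω _ S E p Γ h N M A0 A B W W' hN hM hle hEM hMp hf hA0 hA0c hA0p hA0i hA hB hBE hW hW' hAW hBW
  obtain ⟨fA, fB, cA, cB, h1, h2, h3, h4, h5, h6, h7, h8⟩ := sec_p2 hSQ h hN hM hle hEM hMp hf
    (Or.inr ⟨A0, hA0, hA0c, hA0p, hA0i⟩) hA hB hBE
  exact h2.trans (Nat.mul_le_mul (h6 W hW hAW) (h7 W' hW' hBW))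

theorem stSecW (hSQ : StSQ.{u}) : StSecW.{u} := by
  intro Ω _ S E p Γ h N M A0 A B X X' hN hM hle hEM hMp hf hA0 hA0c hA0p hA0i hA hB hBE hX hX' hAX hBX
  obtain ⟨fA, fB, cA, cB, h1, h2, h3, h4, h5, h6, h7, h8⟩ := sec_p2 hSQ h hN hM hle hEM hMp hf
    (Or.inr ⟨A0, hA0, hA0c, hA0p, hA0i⟩) hA hB hBE
  exact h1.trans (Nat.mul_le_mul (h4 X hX hAX) (h5 X' hX' hBX))

/-- **the engine of S5261** -/
theorem eng_of (hSQ : StSQ.{u}) : Eng.{u} where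
  phi := stPhi
  p2 := stP2 hSQ
  p2c := stP2c hSQ
  p2w := stP2w hSQ
  bd := stBd hSQ
  ch := stCh
  hull := stHull
  l := stL
  cj := stConj
  cm := stCm
  secC := stSecC hSQ
  secW := stSecW hSQ

end Cfsg.Agent.H218.TE
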