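import Cfsg.Agent.H218.TE.Sq

/-!
# S5261, (Ro): the abstract half, `V = R/Φ(R)`, `Z = Z2/Φ(R)`, `M/Z` the fixed space of `T` on `V/Z`

No finite group has such a module (`p` odd). Main theorem `RoHyp.false`, and `roAbs` for representations.
-/

set_option autoImplicit false
set_option linter.unusedSectionVars false
set_option linter.unusedVariables false

namespace Cfsg.Agent.H218.TE

open Cfsg.Agent.H218.Count Cfsg.Agent.H218.CountQ Cfsg.Agent.H218.Glob Cfsg.Agent.H218.Fus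

universe u

/-- the hypotheses -/
structure RoHyp {G V : Type u} [Group G] [AddCommGroup V] [DistribMulAction G V] (p : ℕ) (T : Subgroup G)
    (Z M : AddSubgroup V) : Prop where
  pV : ∀ v : V, p • v = 0
  p2 : p ≠ 2
  faith : ∀ g : G, (∀ v : V, g • v = v) → g = 1
  Tp : IsPGroup p T
  T1 : T ≠ ⊥
  nonn : ∃ g : G, ∃ t ∈ T, g * t * g⁻¹ ∉ T
  syl : ∀ P : Subgroup G, IsPGroup p P → ∃ g : G, ∀ x ∈ P, g * x * g⁻¹ ∈ T
  ZM : Z ≤ M
  Zinv : ∀ (g : G), ∀ z ∈ Z, g • z ∈ Z
  TZ : ∀ t ∈ T, ∀ z ∈ Z, t • z = z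
  fix : ∀ v : V, (∀ t ∈ T, t • v = v) → v ∈ Z
  TM : ∀ t ∈ T, ∀ v : V, t • v - v ∈ M
  M1 : ∀ t ∈ T, t ≠ 1 → ∀ v : V, t • v - v ∈ Z ↔ v ∈ M
  cV : Nat.card V = Nat.card Z * Nat.card T ^ 2
  cM : Nat.card M = Nat.card Z * Nat.card T

namespace RoHyp

variable {G V : Type u} [Group G] [Finite G] [AddCommGroup V] [Finite V] [DistribMulAction G V] {p : ℕ}
  [hp : Fact p.Prime] {T : Subgroup G} {Z M : AddSubgroup V} (h : RoHyp p T Z M)

/-- the translate `g M` -/
def tM (M : AddSubgroup V) (g : G) : AddSubgroup V := M.comap (DistribSMul.toAddMonoidHom V g⁻¹)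

omit [Finite G] [Finite V] in
theorem mem_tM {M : AddSubgroup V} {g : G} {v : V} : v ∈ tM M g ↔ g⁻¹ • v ∈ M := Iff.rfl

omit [Finite G] [Finite V] in
theorem smul_mem_tM {M : AddSubgroup V} {g : G} {v : V} (hv : v ∈ M) : g • v ∈ tM M g := by
  rw [mem_tM, inv_smul_smul]; exact hv

theorem card_tM (M : AddSubgroup V) (g : G) : Nat.card (tM M g) = Nat.card M := by
  refine Nat.card_congr ⟨fun v => ⟨g⁻¹ • (v : V), v.2⟩, fun v => ⟨g • (v : V), smul_mem_tM v.2⟩, ?_, ?_⟩
  · intro v; exact Subtype.ext (smul_inv_smul g (v : V))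
  · intro v; exact Subtype.ext (inv_smul_smul g (v : V))

/-- three-step chains are stabilized by elements of order `p` only -/
theorem pow_p_eq_one (pV : ∀ v : V, p • v = 0) (p2 : p ≠ 2) (faith : ∀ g : G, (∀ v : V, g • v = v) → g = 1)
    {M' Z' : AddSubgroup V} {c : G} (h1 : ∀ v : V, c • v - v ∈ M') (h2 : ∀ m ∈ M', c • m - m ∈ Z')
    (h3 : ∀ z ∈ Z', c • z = z) : c ^ p = 1 := by
  apply faith
  intro v
  set m := c • v - v with hm
  set z := c • m - m with hz
  have hcz : c • z = z := h3 _ (h2 _ (h1 v))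
  have key : ∀ n : ℕ, (c ^ n) • v = v + n • m + (n.choose 2) • z := by
    intro n
    induction n with
    | zero => simp
    | succ n ih =>
      have e1 : c • v = v + m := by rw [hm]; abel
      have e2 : c • m = m + z := by rw [hz]; abel
      rw [pow_succ', mul_smul, ih, smul_add, smul_add, e1, smul_comm c n m, e2, smul_comm c (n.choose 2) z, hcz,
        Nat.choose_succ_succ' n 1, Nat.choose_one_right, smul_add, succ_nsmul, add_smul]
      abel
  rw [key, pV, add_zero]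
  have h4 : p ∣ p.choose 2 := hp.out.dvd_choose_self (by norm_num) (by
    have := hp.out.two_le
    omega)
  obtain ⟨k, hk⟩ := h4
  rw [hk, mul_smul, pV, add_zero]

include h

theorem card_T : 2 ≤ Nat.card T := by
  have h1 : Nat.card T ≠ 1 := fun h1 => h.T1 (Subgroup.eq_bot_of_card_eq _ h1)
  have h2 : 0 < Nat.card T := Nat.card_pos
  omega

/-- `T` is a maximal `p`-subgroup -/
theorem eq_T {P : Subgroup G} (hP : IsPGroup p P) (hTP : T ≤ P) : P = T := by
  obtain ⟨g, hg⟩ := h.syl P hP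
  symm
  apply Subgroup.eq_of_le_of_card_ge hTP
  refine Nat.card_le_card_of_injective (fun x : P => (⟨g * x * g⁻¹, hg x x.2⟩ : T)) ?_
  intro x y hxy
  have h1 : g * (x : G) * g⁻¹ = g * y * g⁻¹ := congrArg Subtype.val hxy
  exact Subtype.ext (mul_left_cancel (mul_right_cancel h1))

theorem pelt_Z {q : G} (hq : ∃ k, q ^ p ^ k = 1) {z : V} (hz : z ∈ Z) : q • z = z := by
  obtain ⟨g, hg⟩ := h.syl _ (isPGroup_zpowers' hq)
  have h1 := h.TZ _ (hg q (Subgroup.mem_zpowers q)) (g • z) (h.Zinv g z hz)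
  rw [← mul_smul] at h1
  have e : g * q * g⁻¹ * g = g * q := by group
  rw [e, mul_smul] at h1
  exact smul_left_cancel g h1

theorem pelt_T {t : G} (ht : t ∈ T) : ∃ k, t ^ p ^ k = 1 := by
  obtain ⟨k, hk⟩ := h.Tp ⟨t, ht⟩
  exact ⟨k, congrArg Subtype.val hk⟩

theorem Zinv' {g : G} {z : V} : g • z ∈ Z ↔ z ∈ Z := by
  constructor
  · intro h1
    have h2 := h.Zinv g⁻¹ _ h1
    rwa [inv_smul_smul] at h2
  · exact h.Zinv g z

/-- translates of `M` agree when the conjugates meet -/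
theorem tM_eq {g t : G} (ht : t ∈ T) (ht1 : t ≠ 1) (hs : g⁻¹ * t * g ∈ T) : tM M g = M := by
  have hs1 : g⁻¹ * t * g ≠ 1 := by
    intro h1
    apply ht1
    have : g * (g⁻¹ * t * g) * g⁻¹ = 1 := by rw [h1]; group
    have e : g * (g⁻¹ * t * g) * g⁻¹ = t := by group
    rwa [e] at this
  ext v
  have e : (g⁻¹ * t * g) • g⁻¹ • v - g⁻¹ • v = g⁻¹ • (t • v - v) := by
    rw [mul_smul, smul_inv_smul, mul_smul, smul_sub]
  have h1 : g⁻¹ • v ∈ M ↔ (g⁻¹ * t * g) • g⁻¹ • v - g⁻¹ • v ∈ Z := (h.M1 _ hs hs1 (g⁻¹ • v)).symm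
  have h2 : v ∈ M ↔ t • v - v ∈ Z := (h.M1 t ht ht1 v).symm
  rw [mem_tM, h1, h2, e, h.Zinv']

/-- `T` is TI -/
theorem ti {g t : G} (ht : t ∈ T) (ht1 : t ≠ 1) (hs : g⁻¹ * t * g ∈ T) : g ∈ Subgroup.normalizer (T : Set G) := by
  have hgM := h.tM_eq ht ht1 hs
  -- the stabilizer of the chain
  let C : Subgroup G := {
    carrier := {c | (∀ v : V, c • v - v ∈ M) ∧ (∀ m ∈ M, c • m - m ∈ Z) ∧ ∀ z ∈ Z, c • z = z}
    one_mem' := ⟨fun v => by rw [one_smul, sub_self]; exact zero_mem _,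
      fun v _ => by rw [one_smul, sub_self]; exact zero_mem _, fun z _ => one_smul _ z⟩
    mul_mem' := by
      rintro a b ⟨ha1, ha2, ha3⟩ ⟨hb1, hb2, hb3⟩
      refine ⟨fun v => ?_, fun v hv => ?_, fun z hz => ?_⟩
      · have h1 := add_mem (ha1 (b • v)) (hb1 v)
        have e : a • b • v - b • v + (b • v - v) = (a * b) • v - v := by rw [mul_smul]; abel
        rwa [e] at h1
      · have hbv : b • v ∈ M := by
          have h1 := add_mem (hb1 v) hv
          rwa [sub_add_cancel] at h1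
        have h1 := add_mem (ha2 (b • v) hbv) (hb2 v hv)
        have e : a • b • v - b • v + (b • v - v) = (a * b) • v - v := by rw [mul_smul]; abel
        rwa [e] at h1
      · rw [mul_smul, hb3 z hz, ha3 z hz]
    inv_mem' := by
      rintro a ⟨ha1, ha2, ha3⟩
      have hinv : ∀ v ∈ M, a⁻¹ • v ∈ M := by
        -- `a` permutes the finite set `M`
        have h1 : ∀ v ∈ M, a • v ∈ M := fun v hv => by
          have h1 := add_mem (ha1 v) hv
          rwa [sub_add_cancel] at h1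
        have h2 : M.map (DistribSMul.toAddMonoidHom V a) = M := by
          apply AddSubgroup.eq_of_le_of_card_ge
          · rintro _ ⟨v, hv, rfl⟩
            exact h1 v hv
          · exact Nat.card_le_card_of_injective (fun v : M => (⟨a • (v : V), ⟨v, v.2, rfl⟩⟩ :
              M.map (DistribSMul.toAddMonoidHom V a))) (fun x y hxy =>
                Subtype.ext (smul_left_cancel a (congrArg Subtype.val hxy)))
        intro v hv
        rw [← h2] at hv
        obtain ⟨w, hw, rfl⟩ := hv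
        show a⁻¹ • a • w ∈ M
        rw [inv_smul_smul]; exact hw
      refine ⟨fun v => ?_, fun v hv => ?_, fun z hz => ?_⟩
      · have h1 := neg_mem (ha1 (a⁻¹ • v))
        rw [smul_inv_smul] at h1
        have e : -(v - a⁻¹ • v) = a⁻¹ • v - v := by abel
        rwa [e] at h1
      · have h1 := neg_mem (ha2 (a⁻¹ • v) (hinv v hv))
        rw [smul_inv_smul] at h1
        have e : -(v - a⁻¹ • v) = a⁻¹ • v - v := by abel
        rwa [e] at h1
      · rw [inv_smul_eq_iff, ha3 z hz] }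
  have hCp : IsPGroup p C := by
    rintro ⟨c, hc1, hc2, hc3⟩
    refine ⟨1, Subtype.ext ?_⟩
    rw [pow_one]
    exact pow_p_eq_one h.pV h.p2 h.faith hc1 hc2 hc3
  have hM1 : ∀ t ∈ T, ∀ m ∈ M, t • m - m ∈ Z := by
    intro t ht m hm
    by_cases h1 : t = 1
    · rw [h1, one_smul, sub_self]; exact zero_mem _
    · exact (h.M1 t ht h1 m).2 hm
  have hTC : T ≤ C := fun t ht => ⟨h.TM t ht, hM1 t ht, h.TZ t ht⟩
  have hCT := h.eq_T hCp hTC
  have hconj : ∀ s ∈ T, g * s * g⁻¹ ∈ T := by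
    intro s hs
    rw [← hCT]
    refine ⟨fun v => ?_, fun m hm => ?_, fun z hz => ?_⟩
    · rw [← hgM, mem_tM]
      have e : g⁻¹ • ((g * s * g⁻¹) • v - v) = s • g⁻¹ • v - g⁻¹ • v := by
        rw [smul_sub, ← mul_smul, ← mul_smul]
        congr 2; group
      rw [e]
      exact h.TM s hs _
    · rw [← hgM, mem_tM] at hm
      have e : g⁻¹ • ((g * s * g⁻¹) • m - m) = s • g⁻¹ • m - g⁻¹ • m := by
        rw [smul_sub, ← mul_smul, ← mul_smul]
        congr 2; group
      rw [← h.Zinv' (g := g⁻¹), e]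
      exact hM1 s hs _ hm
    · rw [mul_smul, mul_smul, h.TZ s hs _ (h.Zinv _ _ hz), smul_inv_smul]
  rw [Subgroup.mem_normalizer_iff]
  have hmap : T.map (MulAut.conj g).toMonoidHom = T := by
    apply Subgroup.eq_of_le_of_card_ge
    · rintro _ ⟨s, hs, rfl⟩
      exact hconj s hs
    · rw [Nat.card_congr (T.equivMapOfInjective (MulAut.conj g).toMonoidHom (MulAut.conj g).injective).toEquiv]
  intro x
  constructor
  · exact hconj x
  · intro hx
    rw [← hmap] at hx
    obtain ⟨s, hs, hsx⟩ := hx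
    have h1 : g * s * g⁻¹ = g * x * g⁻¹ := hsx
    rw [← mul_left_cancel (mul_right_cancel h1)]
    exact hs

/-- `N(T)` -/
theorem mem_T_of_N {q : G} (hq : q ∈ Subgroup.normalizer (T : Set G)) (hqp : ∃ k, q ^ p ^ k = 1) : q ∈ T := by
  have h1 : IsPGroup p (T ⊔ Subgroup.zpowers q : Subgroup G) :=
    h.Tp.to_sup_of_normal_left' (isPGroup_zpowers' hqp) ((Subgroup.zpowers_le).2 hq)
  rw [← h.eq_T h1 le_sup_left]
  exact Subgroup.mem_sup_right (Subgroup.mem_zpowers q)

theorem conj_pelt {q g : G} (hqp : ∃ k, q ^ p ^ k = 1) : ∃ k, (g * q * g⁻¹) ^ p ^ k = 1 := by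
  obtain ⟨k, hk⟩ := hqp
  exact ⟨k, by rw [conj_pow, hk]; group⟩

theorem seN : SE p (Subgroup.normalizer (T : Set G)) where
  ne := by
    obtain ⟨g, t, ht, hgt⟩ := h.nonn
    exact ⟨g, fun h1 => hgt ((Subgroup.mem_normalizer_iff.1 h1 t).1 ht)⟩
  se := by
    intro q hq hq1 hqp g hg hmem
    have h1 := h.mem_T_of_N hq hqp
    have h2 := h.mem_T_of_N hmem (h.conj_pelt hqp)
    apply hg
    refine h.ti h2 ?_ ?_
    · intro h3
      apply hq1
      have : g⁻¹ * (g * q * g⁻¹) * g = 1 := by rw [h3]; group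
      have e : g⁻¹ * (g * q * g⁻¹) * g = q := by group
      rwa [e] at this
    · have e : g⁻¹ * (g * q * g⁻¹) * g = q := by group
      rw [e]; exact h1

theorem exists_t : ∃ t ∈ T, t ≠ 1 := by
  obtain ⟨⟨t, ht⟩, ht1⟩ := Subgroup.ne_bot_iff_exists_ne_one.1 h.T1
  exact ⟨t, ht, fun h1 => ht1 (Subtype.ext h1)⟩

theorem TMZ {t : G} (ht : t ∈ T) {m : V} (hm : m ∈ M) : t • m - m ∈ Z := by
  by_cases h1 : t = 1
  · rw [h1, one_smul, sub_self]; exact zero_mem _
  · exact (h.M1 t ht h1 m).2 hm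

theorem TM' {g s : G} (hs : s ∈ T) (v : V) : (g * s * g⁻¹) • v - v ∈ tM M g := by
  rw [mem_tM]
  have e : g⁻¹ • ((g * s * g⁻¹) • v - v) = s • g⁻¹ • v - g⁻¹ • v := by
    rw [smul_sub, ← mul_smul, ← mul_smul]
    congr 2; group
  rw [e]
  exact h.TM s hs _

theorem TMZ' {g s : G} (hs : s ∈ T) {m : V} (hm : m ∈ tM M g) : (g * s * g⁻¹) • m - m ∈ Z := by
  rw [mem_tM] at hm
  have e : g⁻¹ • ((g * s * g⁻¹) • m - m) = s • g⁻¹ • m - g⁻¹ • m := by
    rw [smul_sub, ← mul_smul, ← mul_smul]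
    congr 2; group
  rw [← h.Zinv' (g := g⁻¹), e]
  exact h.TMZ hs hm

theorem M1' {g s : G} (hs : s ∈ T) (hs1 : s ≠ 1) {v : V} (hv : (g * s * g⁻¹) • v - v ∈ Z) : v ∈ tM M g := by
  have e : g⁻¹ • ((g * s * g⁻¹) • v - v) = s • g⁻¹ • v - g⁻¹ • v := by
    rw [smul_sub, ← mul_smul, ← mul_smul]
    congr 2; group
  rw [← h.Zinv' (g := g⁻¹), e, h.M1 s hs hs1] at hv
  exact hv

theorem Z_le_tM (g : G) : Z ≤ tM M g := fun z hz => by
  rw [mem_tM]; exact h.ZM (h.Zinv _ _ hz)

/-- different translates meet in `Z` -/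
theorem inf_eq (hSQ : StSQ.{u}) {g : G} (hg : g ∉ Subgroup.normalizer (T : Set G)) : M ⊓ tM M g = Z := by
  classical
  obtain ⟨t, ht, ht1⟩ := h.exists_t
  set F := M ⊓ tM M g with hF
  set J : Subgroup G := T ⊔ cj g T with hJ
  have hZF : Z ≤ F := le_inf h.ZM (h.Z_le_tM g)
  -- `J` acts trivially on `F/Z` and on `Z`
  have hJF : ∀ j ∈ J, (∀ v ∈ F, j • v - v ∈ Z) ∧ ∀ z ∈ Z, j • z = z := by
    let C : Subgroup G := {
      carrier := {c | (∀ v ∈ F, c • v - v ∈ Z) ∧ ∀ z ∈ Z, c • z = z}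
      one_mem' := ⟨fun v _ => by rw [one_smul, sub_self]; exact zero_mem _, fun z _ => one_smul _ z⟩
      mul_mem' := by
        rintro a b ⟨ha1, ha2⟩ ⟨hb1, hb2⟩
        refine ⟨fun v hv => ?_, fun z hz => by rw [mul_smul, hb2 z hz, ha2 z hz]⟩
        have h1 := add_mem (h.Zinv a _ (hb1 v hv)) (ha1 v hv)
        have e : a • (b • v - v) + (a • v - v) = (a * b) • v - v := by rw [mul_smul, smul_sub]; abel
        rwa [e] at h1
      inv_mem' := by
        rintro a ⟨ha1, ha2⟩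
        refine ⟨fun v hv => ?_, fun z hz => by rw [inv_smul_eq_iff, ha2 z hz]⟩
        have h1 := neg_mem (h.Zinv a⁻¹ _ (ha1 v hv))
        have e : -(a⁻¹ • (a • v - v)) = a⁻¹ • v - v := by rw [smul_sub, inv_smul_smul]; abel
        rwa [e] at h1 }
    have hJC : J ≤ C := by
      refine sup_le ?_ ?_
      · intro s hs
        exact ⟨fun v hv => h.TMZ hs hv.1, h.TZ s hs⟩
      · rintro _ ⟨s, hs, rfl⟩
        exact ⟨fun v hv => h.TMZ' hs hv.2, fun z hz => h.pelt_Z (h.conj_pelt (h.pelt_T hs)) hz⟩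
    exact fun j hj => hJC hj
  have hJinv : ∀ (l : J) (m : V), m ∈ F → l • m ∈ F := by
    intro l m hm
    have h1 := add_mem (hZF ((hJF l l.2).1 m hm)) hm
    rwa [sub_add_cancel] at h1
  let := quotAct (L := J) F hJinv
  have hmk : ∀ (l : J) (m : V), l • (QuotientAddGroup.mk m : V ⧸ F) = QuotientAddGroup.mk (l • m) := fun l m => rfl
  -- strongly embedded in `J`
  have hN := h.seN
  have hY : SE p ((Subgroup.normalizer (T : Set G)).subgroupOf J) := by
    refine ⟨?_, ?_⟩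
    · by_contra hcon
      push Not at hcon
      apply hg
      have h1 : g * t * g⁻¹ ∈ T := by
        refine h.mem_T_of_N ?_ (h.conj_pelt (h.pelt_T ht))
        exact Subgroup.mem_subgroupOf.1 (hcon ⟨g * t * g⁻¹, Subgroup.mem_sup_right (conj_mem_cj ht)⟩)
      refine h.ti h1 ?_ ?_
      · intro h3
        apply ht1
        have : g⁻¹ * (g * t * g⁻¹) * g = 1 := by rw [h3]; group
        have e : g⁻¹ * (g * t * g⁻¹) * g = t := by group
        rwa [e] at this
      · have e : g⁻¹ * (g * t * g⁻¹) * g = t := by group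
        rw [e]; exact ht
    · rintro q hq hq1 ⟨k, hk⟩ x hx hmem
      rw [Subgroup.mem_subgroupOf] at hq hx hmem
      exact hN.se q hq (fun h1 => hq1 (Subtype.ext h1)) ⟨k, congrArg Subtype.val hk⟩ x hx hmem
  set q : J := ⟨t, Subgroup.mem_sup_left ht⟩ with hq
  have hqY : q ∈ (Subgroup.normalizer (T : Set G)).subgroupOf J :=
    Subgroup.mem_subgroupOf.2 (Subgroup.le_normalizer ht)
  have hq1 : q ≠ 1 := fun h1 => ht1 (congrArg Subtype.val h1)
  have hqp : ∃ k, q ^ p ^ k = 1 := by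
    obtain ⟨k, hk⟩ := h.pelt_T ht
    exact ⟨k, Subtype.ext hk⟩
  -- faithful on `V/F`
  have hKp : IsPGroup p (MulAction.toPermHom J (V ⧸ F)).ker := by
    rintro ⟨k, hk⟩
    refine ⟨1, Subtype.ext ?_⟩
    rw [pow_one]
    apply Subtype.ext
    show (k : G) ^ p = 1
    refine pow_p_eq_one h.pV h.p2 h.faith (M' := F) (Z' := Z) ?_ (hJF k k.2).1 (hJF k k.2).2
    intro m
    have h1 : k • (QuotientAddGroup.mk m : V ⧸ F) = QuotientAddGroup.mk m :=
      Equiv.congr_fun (MonoidHom.mem_ker.1 hk) (QuotientAddGroup.mk m : V ⧸ F)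
    rw [hmk, QuotientAddGroup.eq] at h1
    have h2 := neg_mem h1
    have e : -(-(k • m) + m) = k • m - m := by abel
    rwa [e] at h2
  have hK := SE.normal_p hY hqY hq1 hqp hKp
  have hAp : IsPGroup p (T.subgroupOf J) := h.Tp.comap_subtype
  have hcard : Nat.card (T.subgroupOf J) = Nat.card T :=
    Nat.card_congr (Subgroup.subgroupOfEquivOfLe le_sup_left).toEquiv
  have h1 := sq_le hSQ (M := V ⧸ F) (Y := (Subgroup.normalizer (T : Set G)).subgroupOf J) (by
    intro x
    obtain ⟨m, rfl⟩ := QuotientAddGroup.mk_surjective x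
    rw [← QuotientAddGroup.mk_nsmul, h.pV]; rfl) hY hqY hq1 hqp (by
    intro x hx
    have h1 : x ∈ (MulAction.toPermHom J (V ⧸ F)).ker := by
      rw [MonoidHom.mem_ker]
      ext y
      exact hx y
    rwa [hK, Subgroup.mem_bot] at h1) hAp
  rw [hcard] at h1
  have h2 := F.card_mul_index
  rw [AddSubgroup.index_eq_card, h.cV] at h2
  symm
  apply AddSubgroup.eq_of_le_of_card_ge hZF
  have h3 : Nat.card F * Nat.card T ^ 2 ≤ Nat.card Z * Nat.card T ^ 2 := by
    rw [← h2]; exact Nat.mul_le_mul_left _ h1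
  exact Nat.le_of_mul_le_mul_right h3 (pow_pos Nat.card_pos 2)

/-- elements of `N(T)` stabilize `M` -/
theorem N_smul {g : G} (hg : g ∈ Subgroup.normalizer (T : Set G)) {m : V} (hm : m ∈ M) : g • m ∈ M := by
  obtain ⟨t, ht, ht1⟩ := h.exists_t
  have h1 : g⁻¹ * t * g ∈ T := by
    have h2 := (Subgroup.mem_normalizer_iff.1 (inv_mem hg) t).1 ht
    rwa [inv_inv] at h2
  rw [← h.tM_eq ht ht1 h1]
  exact smul_mem_tM hm

theorem tr_inf (hSQ : StSQ.{u}) {a b : G} (hab : a⁻¹ * b ∉ Subgroup.normalizer (T : Set G)) {m m' : V} (hm : m ∈ M)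
    (hm' : m' ∈ M) (he : a • m = b • m') : m ∈ Z := by
  rw [← h.inf_eq hSQ hab]
  refine ⟨hm, ?_⟩
  have e : m = (a⁻¹ * b) • m' := by rw [mul_smul, ← he, inv_smul_smul]
  rw [e]
  exact smul_mem_tM hm'

theorem conj_not_mem {g x : G} (hg : g ∉ Subgroup.normalizer (T : Set G)) (hx : x ∈ T) (hx1 : x ≠ 1) :
    g⁻¹ * x * g ∉ Subgroup.normalizer (T : Set G) := by
  intro h1
  apply hg
  refine h.ti hx hx1 (h.mem_T_of_N h1 ?_)
  have h2 := h.conj_pelt (g := g⁻¹) (h.pelt_T hx)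
  rwa [inv_inv] at h2

/-- the counting step -/
theorem exists_N (hSQ : StSQ.{u}) {a b : G} (ha : a ∉ Subgroup.normalizer (T : Set G))
    (hb : b ∉ Subgroup.normalizer (T : Set G)) : ∃ t ∈ T, b⁻¹ * t * a ∈ Subgroup.normalizer (T : Set G) := by
  classical
  by_contra hcon
  push Not at hcon
  set N := Subgroup.normalizer (T : Set G) with hN
  have hTN : T ≤ N := Subgroup.le_normalizer
  let c : Option (Option T) → G := fun i => match i with
    | none => 1
    | some none => b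
    | some (some t) => t * a
  have hc : ∀ i j, i ≠ j → (c i)⁻¹ * c j ∉ N := by
    have key : ∀ i j, i ≠ j → (c i)⁻¹ * c j ∈ N → (c j)⁻¹ * c i ∈ N := by
      intro i j _ h1
      have h2 := inv_mem h1
      rwa [mul_inv_rev, inv_inv] at h2
    have h01 : (c none)⁻¹ * c (some none) ∉ N := by
      show (1 : G)⁻¹ * b ∉ N
      rwa [inv_one, one_mul]
    have h02 : ∀ t : T, (c none)⁻¹ * c (some (some t)) ∉ N := by
      intro t
      show (1 : G)⁻¹ * (t * a) ∉ N
      rw [inv_one, one_mul]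
      intro h1
      apply ha
      exact (N.mul_mem_cancel_left (hTN t.2)).1 h1
    have h12 : ∀ t : T, (c (some none))⁻¹ * c (some (some t)) ∉ N := by
      intro t
      show b⁻¹ * (t * a) ∉ N
      rw [← mul_assoc]
      exact hcon t t.2
    intro i j hij
    rcases i with _ | _ | s <;> rcases j with _ | _ | t
    · exact absurd rfl hij
    · exact h01
    · exact h02 t
    · exact fun h1 => h01 (key _ _ hij h1)
    · exact absurd rfl hij
    · exact h12 t
    · exact fun h1 => h02 s (key _ _ hij h1)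
    · exact fun h1 => h12 s (key _ _ hij h1)
    · show ((s : G) * a)⁻¹ * (t * a) ∉ N
      have e : ((s : G) * a)⁻¹ * (t * a) = a⁻¹ * ((s : G)⁻¹ * t) * a := by group
      rw [e]
      refine h.conj_not_mem ha (mul_mem (inv_mem s.2) t.2) ?_
      intro h1
      apply hij
      have h2 : (t : G) = s := by
        rw [inv_mul_eq_one] at h1
        exact h1.symm
      rw [show t = s from Subtype.ext h2]
  -- the injection
  let D : Type u := {m : V // m ∈ M ∧ m ∉ Z}
  have hinj : Function.Injective (fun x : Z ⊕ (Option (Option T) × D) =>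
      (Sum.elim (fun z : Z => (z : V)) (fun y : Option (Option T) × D => c y.1 • (y.2 : V)) x : V)) := by
    rintro (z | ⟨i, m⟩) (z' | ⟨j, m'⟩) hxy
    · exact congrArg Sum.inl (Subtype.ext hxy)
    · exfalso
      have h1 : (z : V) = c j • (m' : V) := hxy
      have h2 : c j • (m' : V) ∈ Z := h1 ▸ z.2
      exact m'.2.2 (h.Zinv'.1 h2)
    · exfalso
      have h1 : c i • (m : V) = (z' : V) := hxy
      have h2 : c i • (m : V) ∈ Z := h1 ▸ z'.2
      exact m.2.2 (h.Zinv'.1 h2)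
    · have h1 : c i • (m : V) = c j • (m' : V) := hxy
      by_cases hij : i = j
      · subst hij
        have h2 : m = m' := Subtype.ext (smul_left_cancel _ h1)
        rw [h2]
      · exact absurd (h.tr_inf hSQ (hc i j hij) m.2.1 m'.2.1 h1) m.2.2
  have h1 := Nat.card_le_card_of_injective _ hinj
  have hD : Nat.card D + Nat.card Z = Nat.card M := by
    have h2 : Nat.card D = ((M : Set V) \ (Z : Set V)).ncard := rfl
    have h3 := Set.ncard_sdiff_add_ncard_of_subset (s := (Z : Set V)) (t := (M : Set V)) h.ZM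
    rw [h2]
    exact h3
  have hO : Nat.card (Option (Option T)) = Nat.card T + 2 := by
    rw [Finite.card_option, Finite.card_option]
  rw [Nat.card_sum, Nat.card_prod, hO, h.cV] at h1
  rw [h.cM] at hD
  have hz : 0 < Nat.card Z := Nat.card_pos
  have h2 := h.card_T
  obtain ⟨k, hk⟩ : ∃ k, Nat.card T = k + 2 := ⟨Nat.card T - 2, by omega⟩
  rw [hk] at h1 hD
  have h3 : Nat.card D = Nat.card Z * (k + 1) := by nlinarith
  rw [h3] at h1
  nlinarith

theorem two_smul_mem {v : V} {Z' : AddSubgroup V} (hv : v + v ∈ Z') : v ∈ Z' := by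
  have hodd : Odd p := hp.out.odd_of_ne_two h.p2
  obtain ⟨k, hk⟩ := hodd
  have h1 : v = p • v - k • (v + v) := by
    rw [hk, add_smul, one_smul, mul_comm, mul_smul, two_smul]
    abel
  rw [h1, h.pV, zero_sub]
  exact neg_mem (nsmul_mem hv k)

/-- an element acting as `-1` on `V/Z` -/
theorem exists_z (hSQ : StSQ.{u}) : ∃ z : G, (∀ v : V, z • v + v ∈ Z) ∧ ∀ ζ ∈ Z, z • ζ = ζ := by
  obtain ⟨g, s0, hs0, hgs0⟩ := h.nonn
  have hg : g ∉ Subgroup.normalizer (T : Set G) := fun h1 =>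
    hgs0 ((Subgroup.mem_normalizer_iff.1 h1 s0).1 hs0)
  obtain ⟨x, hx, hx1⟩ := h.exists_t
  have hg' : g⁻¹ ∉ Subgroup.normalizer (T : Set G) := fun h1 => hg (by
    have h2 := inv_mem h1
    rwa [inv_inv] at h2)
  obtain ⟨t, ht, htN⟩ := h.exists_N hSQ (h.conj_not_mem hg hx hx1) hg'
  have e1 : (g⁻¹)⁻¹ * t * (g⁻¹ * x * g) = g * t * g⁻¹ * x * g := by group
  rw [e1] at htN
  have ht1 : t ≠ 1 := by
    intro h1
    apply hg
    rw [h1] at htN
    have e2 : g * 1 * g⁻¹ * x * g = x * g := by group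
    rw [e2] at htN
    exact (Subgroup.mul_mem_cancel_left _ (Subgroup.le_normalizer hx)).1 htN
  obtain ⟨y, hy⟩ : ∃ y, y = g * t * g⁻¹ := ⟨_, rfl⟩
  rw [← hy] at htN
  have hF := h.inf_eq hSQ hg
  have hxZ : ∀ ζ ∈ Z, x • ζ = ζ := h.TZ x hx
  have hyZ : ∀ ζ ∈ Z, y • ζ = ζ := fun ζ hζ => by
    rw [hy]; exact h.pelt_Z (h.conj_pelt (h.pelt_T ht)) hζ
  have hxV : ∀ v : V, x • v - v ∈ M := h.TM x hx
  have hyV : ∀ v : V, y • v - v ∈ tM M g := fun v => by rw [hy]; exact h.TM' ht v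
  have hxM : ∀ m ∈ M, x • m - m ∈ Z := fun m hm => h.TMZ hx hm
  have hyM : ∀ m ∈ tM M g, y • m - m ∈ Z := fun m hm => by rw [hy]; exact h.TMZ' ht hm
  -- `(y-1)(x-1) = -1` on `M2`
  have h1 : ∀ m ∈ tM M g, y • (x • m - m) - (x • m - m) + m ∈ Z := by
    intro m hm
    rw [← hF]
    constructor
    · have h2 : y • x • m ∈ M := by
        have h3 := h.N_smul htN (mem_tM.1 hm)
        have e : (y * x * g) • g⁻¹ • m = y • x • m := by
          rw [mul_smul, smul_inv_smul, mul_smul]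
        rwa [e] at h3
      have h3 := sub_mem (sub_mem h2 (h.ZM (hyM m hm))) (hxV m)
      have e : y • x • m - (y • m - m) - (x • m - m) = y • (x • m - m) - (x • m - m) + m := by
        rw [smul_sub]; abel
      rwa [e] at h3
    · exact add_mem (hyV _) hm
  -- `(x-1)(y-1) = -1` on `M`
  have h2 : ∀ m ∈ M, x • (y • m - m) - (y • m - m) + m ∈ Z := by
    intro m hm
    rw [← hF]
    have h3 : x • (y • m - m) - (y • m - m) + m ∈ M := add_mem (hxV _) hm
    refine ⟨h3, ?_⟩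
    refine h.M1' ht ht1 ?_
    have h4 := h1 (y • m - m) (hyV m)
    have e : y • (x • (y • m - m) - (y • m - m) + m) - (x • (y • m - m) - (y • m - m) + m) =
        y • (x • (y • m - m) - (y • m - m)) - (x • (y • m - m) - (y • m - m)) + (y • m - m) := by
      rw [smul_add]; abel
    rw [← hy, e]
    exact h4
  -- `w = xyx`
  obtain ⟨w, hw⟩ : ∃ w, w = x * y * x := ⟨_, rfl⟩
  have hwZ : ∀ ζ ∈ Z, w • ζ = ζ := by
    intro ζ hζ
    rw [hw, mul_smul, mul_smul, hxZ ζ hζ, hyZ ζ hζ, hxZ ζ hζ]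
  have h3 : ∀ m ∈ tM M g, w • m - (x • m - m) ∈ Z := by
    intro m hm
    have h4 : y • x • m - (x • m - m) ∈ Z := by
      have h5 := add_mem (h1 m hm) (hyM m hm)
      have e : y • (x • m - m) - (x • m - m) + m + (y • m - m) = y • x • m - (x • m - m) := by
        rw [smul_sub]; abel
      rwa [e] at h5
    have h5 := add_mem (h.Zinv x _ h4) (hxM _ (hxV m))
    have e : x • (y • x • m - (x • m - m)) + (x • (x • m - m) - (x • m - m)) = w • m - (x • m - m) := by
      rw [hw, mul_smul (x * y), mul_smul x y, smul_sub x (y • x • m)]; abel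
    rwa [e] at h5
  have h4 : ∀ m ∈ M, w • m - (y • m - m) ∈ Z := by
    intro m hm
    have h5 := h.Zinv (x * y) _ (hxM m hm)
    have h6 := add_mem h5 (add_mem (h2 m hm) (hxM m hm))
    have e : (x * y) • (x • m - m) + (x • (y • m - m) - (y • m - m) + m + (x • m - m)) =
        w • m - (y • m - m) := by
      rw [hw, mul_smul (x * y) x, smul_sub (x * y), mul_smul x y m, smul_sub x (y • m)]; abel
    rwa [e] at h6
  have h5 : ∀ m ∈ tM M g, (w * w) • m + m ∈ Z := by
    intro m hm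
    have h6 := add_mem (add_mem (h.Zinv w _ (h3 m hm)) (h4 _ (hxV m))) (h1 m hm)
    have e : w • (w • m - (x • m - m)) + (w • (x • m - m) - (y • (x • m - m) - (x • m - m))) +
        (y • (x • m - m) - (x • m - m) + m) = (w * w) • m + m := by
      rw [smul_sub w (w • m), mul_smul w w]; abel
    rwa [e] at h6
  have h6 : ∀ m ∈ M, (w * w) • m + m ∈ Z := by
    intro m hm
    have h7 := add_mem (add_mem (h.Zinv w _ (h4 m hm)) (h3 _ (hyV m))) (h2 m hm)
    have e : w • (w • m - (y • m - m)) + (w • (y • m - m) - (x • (y • m - m) - (y • m - m))) +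
        (x • (y • m - m) - (y • m - m) + m) = (w * w) • m + m := by
      rw [smul_sub w (w • m), mul_smul w w]; abel
    rwa [e] at h7
  -- `V = M + M2`
  have htop : M ⊔ tM M g = ⊤ := by
    apply AddSubgroup.eq_top_of_card_eq
    apply le_antisymm (AddSubgroup.card_le_card_addGroup _)
    have h7 := add_card_le (B₁ := M) (B₂ := tM M g) (B₃ := M ⊔ tM M g) le_sup_left le_sup_right
    rw [card_tM, hF, h.cM] at h7
    rw [h.cV]
    have hz : 0 < Nat.card Z := Nat.card_pos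
    refine Nat.le_of_mul_le_mul_left ?_ hz
    calc Nat.card Z * (Nat.card Z * Nat.card T ^ 2) = Nat.card Z * Nat.card T * (Nat.card Z * Nat.card T) := by ring
      _ ≤ _ := h7
  refine ⟨w * w, fun v => ?_, fun ζ hζ => by rw [mul_smul, hwZ ζ hζ, hwZ ζ hζ]⟩
  have hv : v ∈ M ⊔ tM M g := by rw [htop]; exact AddSubgroup.mem_top v
  obtain ⟨a, ha, b, hb, rfl⟩ := AddSubgroup.mem_sup.1 hv
  have h7 := add_mem (h6 a ha) (h5 b hb)
  have e : (w * w) • a + a + ((w * w) • b + b) = (w * w) • (a + b) + (a + b) := by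
    rw [smul_add]; abel
  rwa [e] at h7

theorem triv_K1 {c : G} (hc : ∀ v : V, c • v - v ∈ Z) (hcZ : ∀ ζ ∈ Z, c • ζ = ζ) : c = 1 := by
  let C : Subgroup G := {
    carrier := {c | (∀ v : V, c • v - v ∈ Z) ∧ ∀ z ∈ Z, c • z = z}
    one_mem' := ⟨fun v => by rw [one_smul, sub_self]; exact zero_mem _, fun z _ => one_smul _ z⟩
    mul_mem' := by
      rintro a b ⟨ha1, ha2⟩ ⟨hb1, hb2⟩
      refine ⟨fun v => ?_, fun z hz => by rw [mul_smul, hb2 z hz, ha2 z hz]⟩
      have h1 := add_mem (h.Zinv a _ (hb1 v)) (ha1 v)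
      have e : a • (b • v - v) + (a • v - v) = (a * b) • v - v := by rw [mul_smul, smul_sub]; abel
      rwa [e] at h1
    inv_mem' := by
      rintro a ⟨ha1, ha2⟩
      refine ⟨fun v => ?_, fun z hz => by rw [inv_smul_eq_iff, ha2 z hz]⟩
      have h1 := neg_mem (h.Zinv a⁻¹ _ (ha1 v))
      have e : -(a⁻¹ • (a • v - v)) = a⁻¹ • v - v := by rw [smul_sub, inv_smul_smul]; abel
      rwa [e] at h1 }
  have hCn : C.Normal := by
    refine ⟨?_⟩
    rintro c ⟨h1, h2⟩ g
    refine ⟨fun v => ?_, fun z hz => ?_⟩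
    · have h3 := h.Zinv g _ (h1 (g⁻¹ • v))
      have e : g • (c • g⁻¹ • v - g⁻¹ • v) = (g * c * g⁻¹) • v - v := by
        rw [smul_sub, smul_inv_smul, mul_smul, mul_smul]
      rwa [e] at h3
    · rw [mul_smul, mul_smul, h2 _ (h.Zinv _ _ hz), smul_inv_smul]
  have hCp : IsPGroup p C := by
    rintro ⟨c, hc1, hc2⟩
    refine ⟨1, Subtype.ext ?_⟩
    rw [pow_one]
    exact pow_p_eq_one h.pV h.p2 h.faith (M' := Z) (Z' := Z) hc1 (fun m _ => hc1 m) hc2
  obtain ⟨t, ht, ht1⟩ := h.exists_t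
  have h1 := SE.normal_p h.seN (Subgroup.le_normalizer ht) ht1 (h.pelt_T ht) hCp
  have h2 : c ∈ C := ⟨hc, hcZ⟩
  rwa [h1, Subgroup.mem_bot] at h2

/-- **no such module** -/
protected theorem false (hSQ : StSQ.{u}) : False := by
  obtain ⟨z, hz, hzZ⟩ := h.exists_z hSQ
  -- `z² = 1`
  have hz2 : z * z = 1 := by
    refine h.triv_K1 (fun v => ?_) (fun ζ hζ => by rw [mul_smul, hzZ ζ hζ, hzZ ζ hζ])
    have h1 := sub_mem (h.Zinv z _ (hz v)) (hz v)
    have e : z • (z • v + v) - (z • v + v) = (z * z) • v - v := by rw [smul_add, mul_smul]; abel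
    rwa [e] at h1
  -- `z` commutes with `T`
  have hzT : ∀ t ∈ T, z * t = t * z := by
    intro t ht
    have h1 : z * t * z⁻¹ * t⁻¹ = 1 := by
      refine h.triv_K1 (fun v => ?_) (fun ζ hζ => ?_)
      · set u := z⁻¹ • t⁻¹ • v with hu
        have hv : v = t • z • u := by rw [hu, smul_inv_smul, smul_inv_smul]
        have h2 := sub_mem (hz (t • u)) (h.Zinv t _ (hz u))
        have e : z • t • u + t • u - t • (z • u + u) = (z * t * z⁻¹ * t⁻¹) • v - v := by
          have e2 : (z * t * z⁻¹ * t⁻¹) • v = z • t • u := by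
            rw [hu, mul_smul, mul_smul, mul_smul]
          rw [e2, hv, smul_add]; abel
        rwa [e] at h2
      · have e1 : t⁻¹ • ζ = ζ := by rw [inv_smul_eq_iff, h.TZ t ht ζ hζ]
        have e2 : z⁻¹ • ζ = ζ := by rw [inv_smul_eq_iff, hzZ ζ hζ]
        rw [mul_smul, mul_smul, mul_smul, e1, e2, h.TZ t ht ζ hζ, hzZ ζ hζ]
    rw [mul_inv_eq_one] at h1
    rw [mul_inv_eq_iff_eq_mul] at h1
    exact h1
  -- the `-1` space
  let D : AddSubgroup V := {
    carrier := {v | z • v = -v}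
    zero_mem' := by show z • (0 : V) = -0; rw [smul_zero, neg_zero]
    add_mem' := by
      intro a b ha hb
      show z • (a + b) = -(a + b)
      rw [smul_add, show z • a = -a from ha, show z • b = -b from hb, neg_add]
    neg_mem' := by
      intro a ha
      show z • (-a) = -(-a)
      rw [smul_neg, show z • a = -a from ha] }
  have hDT : ∀ (t : T) (v : V), v ∈ D → (t : G) • v ∈ D := by
    intro t v hv
    show z • (t : G) • v = -((t : G) • v)
    rw [← mul_smul, hzT t t.2, mul_smul, show z • v = -v from hv, smul_neg]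
  let : DistribMulAction T D := {
    smul := fun t v => ⟨(t : G) • (v : V), hDT t v v.2⟩
    one_smul := fun v => Subtype.ext (one_smul G (v : V))
    mul_smul := fun a b v => Subtype.ext (mul_smul (a : G) (b : G) (v : V))
    smul_zero := fun a => Subtype.ext (smul_zero (a : G))
    smul_add := fun a v w => Subtype.ext (smul_add (a : G) (v : V) (w : V)) }
  have hd0 : ∀ d ∈ D, d ∈ Z → d = 0 := by
    intro d hd hdZ
    have h1 : z • d = -d := hd
    rw [hzZ d hdZ] at h1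
    have h2 : d + d = 0 := by
      nth_rw 1 [h1]
      exact neg_add_cancel d
    have h3 : d ∈ (⊥ : AddSubgroup V) := h.two_smul_mem (by rw [h2]; exact zero_mem _)
    exact AddSubgroup.mem_bot.1 h3
  have hne : ∃ d : D, d ≠ 0 := by
    have h1 : ∃ v : V, v ∉ Z := by
      by_contra hcon
      push Not at hcon
      have h2 : Z = ⊤ := by
        rw [eq_top_iff]
        exact fun v _ => hcon v
      have h3 := h.cV
      have h4 : Nat.card Z = Nat.card V := by rw [h2, AddSubgroup.card_top]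
      rw [← h4] at h3
      have h5 : 0 < Nat.card Z := Nat.card_pos
      have h6 := h.card_T
      have h7 : 1 < Nat.card T ^ 2 := Nat.one_lt_pow (by norm_num) (by omega)
      nlinarith
    obtain ⟨v, hv⟩ := h1
    refine ⟨⟨v - z • v, ?_⟩, ?_⟩
    · show z • (v - z • v) = -(v - z • v)
      rw [smul_sub, ← mul_smul, hz2, one_smul]; abel
    · intro h1
      apply hv
      have h2 : v - z • v = 0 := congrArg Subtype.val h1
      have h3 := hz v
      apply h.two_smul_mem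
      have e : v + v = z • v + v := by rw [← sub_eq_zero.1 h2]
      rwa [e]
  obtain ⟨d, hd0', hd⟩ := exists_fixed (A := T) (Q := D) h.Tp (fun m => Subtype.ext (by
    rw [AddSubgroup.coe_nsmul, h.pV]; rfl)) hne
  apply hd0'
  apply Subtype.ext
  exact hd0 d d.2 (h.fix d fun t ht => congrArg Subtype.val (hd ⟨t, ht⟩))

end RoHyp

/-- the action of a representation -/
@[reducible] def repAct {G V : Type u} [Group G] {p : ℕ} [AddCommGroup V] [Module (ZMod p) V]
    (ρ : Representation (ZMod p) G V) : DistribMulAction G V where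
  smul g v := ρ g v
  one_smul v := by
    show ρ 1 v = v
    rw [map_one]; rfl
  mul_smul a b v := by
    show ρ (a * b) v = ρ a (ρ b v)
    rw [map_mul]; rfl
  smul_zero a := map_zero (ρ a)
  smul_add a v w := map_add (ρ a) v w

/-- the abstract half of (Ro) -/
theorem roAbs_of (hSQ : StSQ.{u}) {G : Type u} [Group G] [Finite G] {p : ℕ} [Fact p.Prime] {V : Type u}
    [AddCommGroup V] [Module (ZMod p) V] [Finite V] (ρ : Representation (ZMod p) G V) (T X : Subgroup G)
    (Z M : Submodule (ZMod p) V) (hp2 : p ≠ 2) (hinj : Function.Injective ρ) (hX : SE p X) (hTX : T ≤ X)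
    (hTp : IsPGroup p T) (hT : T ≠ ⊥) (hsyl : ∀ P : Subgroup G, IsPGroup p P → ∃ g, ∀ x ∈ P, g * x * g⁻¹ ∈ T)
    (hZM : Z ≤ M) (hZ : ∀ g, ∀ z ∈ Z, ρ g z ∈ Z) (hTZ : ∀ t ∈ T, ∀ z ∈ Z, ρ t z = z)
    (hfix : ∀ v, (∀ t ∈ T, ρ t v = v) → v ∈ Z) (hTM : ∀ t ∈ T, ∀ v, ρ t v - v ∈ M)
    (hM1 : ∀ t ∈ T, t ≠ 1 → ∀ v, ρ t v - v ∈ Z ↔ v ∈ M) (hcV : Nat.card V = Nat.card Z * Nat.card T ^ 2)
    (hcM : Nat.card M = Nat.card Z * Nat.card T) : False := by
  let := repAct ρ
  have pV : ∀ v : V, p • v = 0 := fun v => by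
    rw [← Nat.cast_smul_eq_nsmul (ZMod p), ZMod.natCast_self, zero_smul]
  have hpelt : ∀ {t : G}, t ∈ T → ∃ k, t ^ p ^ k = 1 := by
    intro t ht
    obtain ⟨k, hk⟩ := hTp ⟨t, ht⟩
    exact ⟨k, congrArg Subtype.val hk⟩
  obtain ⟨t, ht, ht1⟩ : ∃ t ∈ T, t ≠ 1 := by
    obtain ⟨⟨t, ht⟩, ht1⟩ := Subgroup.ne_bot_iff_exists_ne_one.1 hT
    exact ⟨t, ht, fun h1 => ht1 (Subtype.ext h1)⟩
  have h : RoHyp (G := G) (V := V) p T Z.toAddSubgroup M.toAddSubgroup := {
    pV := pV
    p2 := hp2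
    faith := by
      intro g hg
      apply hinj
      rw [map_one]
      ext v
      exact hg v
    Tp := hTp
    T1 := hT
    nonn := by
      by_contra hcon
      push Not at hcon
      have hn : T.Normal := ⟨fun t ht g => hcon g t ht⟩
      exact hT (SE.normal_p hX (hTX ht) ht1 (hpelt ht) hTp)
    syl := hsyl
    ZM := hZM
    Zinv := hZ
    TZ := hTZ
    fix := hfix
    TM := hTM
    M1 := hM1
    cV := hcV
    cM := hcM }
  exact h.false hSQ

end Cfsg.Agent.H218.TE
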