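import Mathlib
import Cfsg.Agent.H218.Fus.PM
import Cfsg.Prelude.Def_EvenType

/-!
# `|A|² ≤ |M : C_M(A)| |M : C_M(B)|` and `|A|² ≤ |[M, A]| |[M, B]|` from S3083

`StSQ` is the statement S3083 in one universe. Main theorems `p2_gen`, `mod_p2`.
-/

set_option autoImplicit false
set_option linter.unusedSectionVars false
set_option linter.unusedVariables false

namespace Cfsg.Agent.H218.TE

open Cfsg.Agent.H218.Count Cfsg.Agent.H218.CountQ Cfsg.Agent.H218.Glob Cfsg.Agent.H218.Fus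

universe u

/-- S3083 -/
def StSQ : Prop :=
  ∀ {H : Type u} [Group H] [Finite H] (p : ℕ) [Fact p.Prime] (M : Subgroup H) (_ : Cfsg.IsStronglyPEmbedded p M)
    (T : Sylow p H) (V : Type u) [AddCommGroup V] [Module (ZMod p) V] [Finite V] (ρ : Representation (ZMod p) H V)
    (_ : Function.Injective ρ), Nat.card T ^ 2 ≤ Nat.card V

section Elem

variable {G : Type*} [Group G] [Finite G] {p : ℕ} [hp : Fact p.Prime] {X : Subgroup G}

theorem isPGroup_zpowers' {G : Type*} [Group G] {p : ℕ} {q : G} (hq : ∃ k, q ^ p ^ k = 1) :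
    IsPGroup p (Subgroup.zpowers q) := by
  obtain ⟨k, hk⟩ := hq
  rintro ⟨z, n, rfl⟩
  refine ⟨k, Subtype.ext ?_⟩
  show (q ^ n) ^ p ^ k = 1
  rw [← zpow_natCast, ← zpow_mul, mul_comm, zpow_mul, zpow_natCast, hk, one_zpow]

/-- a `p`-subgroup meeting `X` nontrivially is in `X` -/
theorem SE.pgroup_le (hX : SE p X) {P : Subgroup G} (hP : IsPGroup p P) {q : G} (hqP : q ∈ P) (hq : q ∈ X)
    (hq1 : q ≠ 1) : P ≤ X := by
  have hpow : ∀ x ∈ P, ∃ k, x ^ p ^ k = 1 := by
    intro x hx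
    obtain ⟨k, hk⟩ := hP ⟨x, hx⟩
    exact ⟨k, congrArg Subtype.val hk⟩
  have hnt : Nontrivial P := ⟨⟨⟨q, hqP⟩, 1, fun h' => hq1 (congrArg Subtype.val h')⟩⟩
  have hc := hP.center_nontrivial
  obtain ⟨⟨z, hz⟩, hz1⟩ := exists_ne (1 : Subgroup.center P)
  have hzc : ∀ s ∈ P, s * (z : G) = z * s := fun s hs =>
    congrArg Subtype.val (Subgroup.mem_center_iff.1 hz ⟨s, hs⟩)
  have hz1' : (z : G) ≠ 1 := fun h' => hz1 (Subtype.ext (Subtype.ext h'))
  have hzX : (z : G) ∈ X := hX.cent hq hq1 (hpow q hqP) (hzc q hqP).symm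
  intro s hs
  exact hX.cent hzX hz1' (hpow z z.2) (hzc s hs)

/-- a normal `p`-subgroup is trivial -/
theorem SE.normal_p (hX : SE p X) {q : G} (hq : q ∈ X) (hq1 : q ≠ 1) (hqp : ∃ k, q ^ p ^ k = 1)
    {K : Subgroup G} [hK : K.Normal] (hKp : IsPGroup p K) : K = ⊥ := by
  have hQ : IsPGroup p (Subgroup.zpowers q) := isPGroup_zpowers' hqp
  have hP : IsPGroup p (K ⊔ Subgroup.zpowers q : Subgroup G) := hKp.to_sup_of_normal_left hQ
  have h1 := SE.pgroup_le hX hP (Subgroup.mem_sup_right (Subgroup.mem_zpowers q)) hq hq1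
  obtain ⟨x, hx⟩ := hX.ne
  rw [eq_bot_iff]
  intro k hk
  rw [Subgroup.mem_bot]
  by_contra hk1
  obtain ⟨n, hn⟩ := hKp ⟨k, hk⟩
  exact hX.se k (h1 (Subgroup.mem_sup_left hk)) hk1 ⟨n, congrArg Subtype.val hn⟩ x hx
    (h1 (Subgroup.mem_sup_left (hK.conj_mem k hk x)))

/-- the prelude's notion from the elementwise one -/
theorem SE.toStrong (hX : SE p X) {q : G} (hq : q ∈ X) (hq1 : q ≠ 1) (hqp : ∃ k, q ^ p ^ k = 1) :
    Cfsg.IsStronglyPEmbedded p X := by
  apply Cfsg.Agent.EvenType.StrongP.of_inter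
  · obtain ⟨n, hn⟩ := hqp
    obtain ⟨i, hi, hi2⟩ := (Nat.dvd_prime_pow hp.out).1 (orderOf_dvd_of_pow_eq_one hn)
    have h1 : i ≠ 0 := by
      rintro rfl
      rw [pow_zero, orderOf_eq_one_iff] at hi2
      exact hq1 hi2
    exact (dvd_pow_self p h1).trans (hi2 ▸ Subgroup.orderOf_dvd_natCard _ hq)
  · obtain ⟨x, hx⟩ := hX.ne
    intro h
    exact hx (h ▸ Subgroup.mem_top x)
  · intro g hg hdvd
    obtain ⟨⟨y, hy⟩, hyp⟩ := exists_prime_orderOf_dvd_card' p hdvd
    obtain ⟨hyX, z, hz, hzy⟩ := hy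
    have hzy' : g * z * g⁻¹ = y := hzy
    have hyp1 : orderOf y = p := by
      rw [← hyp]
      exact (Subgroup.orderOf_mk y _).symm
    have hzp : orderOf z = p := by
      rw [← hyp1, ← hzy']
      exact (orderOf_injective (MulAut.conj g).toMonoidHom (MulAut.conj g).injective z).symm
    have hz1 : z ≠ 1 := by
      rintro rfl
      rw [orderOf_one] at hzp
      exact hp.out.one_lt.ne hzp
    refine hX.se z hz hz1 ⟨1, ?_⟩ g hg (hzy'.symm ▸ hyX)
    rw [pow_one, ← hzp, pow_orderOf_eq_one]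

end Elem

section Mod

variable {L : Type u} [Group L] [Finite L] {M : Type u} [AddCommGroup M] [Finite M] [DistribMulAction L M]
  {p : ℕ} [hp : Fact p.Prime] {Y : Subgroup L}

/-- the representation -/
def rep (p : ℕ) [Module (ZMod p) M] : Representation (ZMod p) L M where
  toFun g := (DistribSMul.toAddMonoidHom M g).toZModLinearMap p
  map_one' := by ext m; exact one_smul L m
  map_mul' x y := by ext m; exact mul_smul x y m

theorem sq_le (hSQ : StSQ.{u}) (pM : ∀ m : M, p • m = 0) (hY : SE p Y) {q : L} (hq : q ∈ Y) (hq1 : q ≠ 1)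
    (hqp : ∃ k, q ^ p ^ k = 1) (hf : ∀ g : L, (∀ m : M, g • m = m) → g = 1) {A : Subgroup L} (hA : IsPGroup p A) :
    Nat.card A ^ 2 ≤ Nat.card M := by
  let := AddCommGroup.zmodModule pM
  obtain ⟨T, hT⟩ := hA.exists_le_sylow
  have h1 := hSQ p Y (SE.toStrong hY hq hq1 hqp) T M (rep p) (by
    rw [injective_iff_map_eq_one]
    intro g hg
    exact hf g fun m => LinearMap.congr_fun hg m)
  exact (Nat.pow_le_pow_left (Subgroup.card_le_of_le hT) 2).trans h1

omit [Finite L] [Finite M] hp in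
theorem pow_smul_eq {k : L} {m : M} (h : k • (k • m - m) = k • m - m) (n : ℕ) :
    (k ^ n) • m = m + n • (k • m - m) := by
  induction n with
  | zero => simp
  | succ n ih =>
    have h2 : k • (n • (k • m - m)) = n • (k • m - m) := by rw [smul_comm, h]
    rw [pow_succ', mul_smul, ih, smul_add, h2, succ_nsmul]
    abel

omit [Finite L] [Finite M] hp in
theorem pow_eq_one_of (pM : ∀ m : M, p • m = 0) (hf : ∀ g : L, (∀ m : M, g • m = m) → g = 1) {k : L}
    (h : ∀ m : M, k • (k • m - m) = k • m - m) : k ^ p = 1 := by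
  apply hf
  intro m
  rw [pow_smul_eq (h m), pM, add_zero]

theorem sq_le_index (hSQ : StSQ.{u}) (pM : ∀ m : M, p • m = 0) (hY : SE p Y) {q : L} (hq : q ∈ Y) (hq1 : q ≠ 1)
    (hqp : ∃ k, q ^ p ^ k = 1) (hf : ∀ g : L, (∀ m : M, g • m = m) → g = 1) {A : Subgroup L} (hA : IsPGroup p A) :
    Nat.card A ^ 2 ≤ (fx M (⊤ : Subgroup L)).index := by
  classical
  set Z := fx M (⊤ : Subgroup L) with hZ
  let := quotAct (L := L) Z (fun l m hm => by rw [hm l (Subgroup.mem_top l)]; exact hm)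
  have hmk : ∀ (l : L) (m : M), l • (QuotientAddGroup.mk m : M ⧸ Z) = QuotientAddGroup.mk (l • m) := fun l m => rfl
  rw [AddSubgroup.index_eq_card]
  refine sq_le hSQ (M := M ⧸ Z) (Y := Y) ?_ hY hq hq1 hqp ?_ hA
  · intro x
    obtain ⟨m, rfl⟩ := QuotientAddGroup.mk_surjective x
    rw [← QuotientAddGroup.mk_nsmul, pM]; rfl
  · -- the kernel is a normal `p`-subgroup
    have hsub : ∀ k ∈ (MulAction.toPermHom L (M ⧸ Z)).ker, ∀ m : M, k • m - m ∈ Z := by
      intro k hk m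
      have h1 : k • (QuotientAddGroup.mk m : M ⧸ Z) = QuotientAddGroup.mk m :=
        Equiv.congr_fun (MonoidHom.mem_ker.1 hk) (QuotientAddGroup.mk m : M ⧸ Z)
      rw [hmk, QuotientAddGroup.eq] at h1
      have h2 := neg_mem h1
      have e : -(-(k • m) + m) = k • m - m := by abel
      rwa [e] at h2
    have hKp : IsPGroup p (MulAction.toPermHom L (M ⧸ Z)).ker := by
      rintro ⟨k, hk⟩
      refine ⟨1, Subtype.ext ?_⟩
      rw [pow_one]
      exact pow_eq_one_of pM hf fun m => hsub k hk m k (Subgroup.mem_top _)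
    have hK := SE.normal_p hY hq hq1 hqp hKp
    intro g hg
    have h1 : g ∈ (MulAction.toPermHom L (M ⧸ Z)).ker := by
      rw [MonoidHom.mem_ker]
      ext x
      exact hg x
    rwa [hK, Subgroup.mem_bot] at h1

/-- the action on an invariant subgroup -/
@[reducible] def subAct {L : Type*} [Group L] {M : Type*} [AddCommGroup M] [DistribMulAction L M] (Z : AddSubgroup M)
    (hZ : ∀ (l : L) (m : M), m ∈ Z → l • m ∈ Z) : DistribMulAction L Z where
  smul l m := ⟨l • (m : M), hZ l m m.2⟩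
  one_smul m := Subtype.ext (one_smul L (m : M))
  mul_smul x y m := Subtype.ext (mul_smul x y (m : M))
  smul_zero x := Subtype.ext (smul_zero x)
  smul_add x a b := Subtype.ext (smul_add x (a : M) (b : M))

theorem sq_le_comm (hSQ : StSQ.{u}) (pM : ∀ m : M, p • m = 0) (hY : SE p Y) {q : L} (hq : q ∈ Y) (hq1 : q ≠ 1)
    (hqp : ∃ k, q ^ p ^ k = 1) (hf : ∀ g : L, (∀ m : M, g • m = m) → g = 1) {A : Subgroup L} (hA : IsPGroup p A) :
    Nat.card A ^ 2 ≤ Nat.card (cm M (⊤ : Subgroup L)) := by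
  classical
  set Z := cm M (⊤ : Subgroup L) with hZ
  have hin : ∀ (l : L) (m : M), l • m - m ∈ Z := fun l m =>
    AddSubgroup.subset_closure ⟨l, Subgroup.mem_top l, m, rfl⟩
  let := subAct (L := L) Z (fun l m hm => by
    have h1 := add_mem (hin l m) hm
    rwa [sub_add_cancel] at h1)
  have hco : ∀ (l : L) (m : Z), ((l • m : Z) : M) = l • (m : M) := fun l m => rfl
  refine sq_le hSQ (M := Z) (Y := Y) ?_ hY hq hq1 hqp ?_ hA
  · intro x
    exact Subtype.ext (pM x)
  · have hKp : IsPGroup p (MulAction.toPermHom L Z).ker := by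
      rintro ⟨k, hk⟩
      refine ⟨1, Subtype.ext ?_⟩
      rw [pow_one]
      refine pow_eq_one_of pM hf fun m => ?_
      have h1 : k • (⟨k • m - m, hin k m⟩ : Z) = ⟨k • m - m, hin k m⟩ :=
        Equiv.congr_fun (MonoidHom.mem_ker.1 hk) (⟨k • m - m, hin k m⟩ : Z)
      exact congrArg Subtype.val h1
    have hK := SE.normal_p hY hq hq1 hqp hKp
    intro g hg
    have h1 : g ∈ (MulAction.toPermHom L Z).ker := by
      rw [MonoidHom.mem_ker]
      ext x
      exact congrArg Subtype.val (hg x)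
    rwa [hK, Subgroup.mem_bot] at h1

end Mod

section P2

variable {G : Type u} [Group G] [Finite G] {M : Type u} [AddCommGroup M] [Finite M] [DistribMulAction G M]
  {p : ℕ} [hp : Fact p.Prime] {X A B : Subgroup G}

omit [Finite G] [Finite M] in
theorem mem_cj' {x y : G} {A : Subgroup G} : y ∈ cj x A ↔ x⁻¹ * y * x ∈ A := mem_cj

theorem add_card_sup_le (N₁ N₂ : AddSubgroup M) :
    Nat.card (N₁ ⊔ N₂ : AddSubgroup M) ≤ Nat.card N₁ * Nat.card N₂ := by
  rw [← Nat.card_prod]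
  refine Nat.card_le_card_of_surjective (fun x : N₁ × N₂ => (⟨(x.1 : M) + x.2,
    AddSubgroup.add_mem_sup x.1.2 x.2.2⟩ : (N₁ ⊔ N₂ : AddSubgroup M))) ?_
  rintro ⟨y, hy⟩
  obtain ⟨a, ha, b, hb, rfl⟩ := AddSubgroup.mem_sup.1 hy
  exact ⟨(⟨a, ha⟩, ⟨b, hb⟩), rfl⟩

theorem card_cm_cj (x : G) (A : Subgroup G) : Nat.card (cm M (cj x A)) ≤ Nat.card (cm M A) := by
  have h1 : cm M (cj x A) ≤ (cm M A).map (DistribSMul.toAddMonoidHom M x) := by
    unfold cm
    rw [AddSubgroup.closure_le]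
    rintro _ ⟨y, hy, m, rfl⟩
    rw [mem_cj] at hy
    refine ⟨(x⁻¹ * y * x) • (x⁻¹ • m) - x⁻¹ • m, AddSubgroup.subset_closure ⟨_, hy, _, rfl⟩, ?_⟩
    show x • ((x⁻¹ * y * x) • (x⁻¹ • m) - x⁻¹ • m) = y • m - m
    rw [mul_smul, smul_inv_smul, mul_smul, smul_sub, smul_inv_smul, smul_inv_smul]
  refine (Nat.card_mono (Set.toFinite _) h1).trans ?_
  exact Nat.card_le_card_of_surjective (fun m : cm M A => (⟨x • (m : M), ⟨m, m.2, rfl⟩⟩ :
    (cm M A).map (DistribSMul.toAddMonoidHom M x))) (by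
      rintro ⟨_, m, hm, rfl⟩
      exact ⟨⟨m, hm⟩, rfl⟩)

theorem cm_top (J : Subgroup G) : cm M (⊤ : Subgroup J) = cm M J := by
  unfold cm
  congr 1
  ext x
  constructor
  · rintro ⟨a, -, m, rfl⟩
    exact ⟨a, a.2, m, rfl⟩
  · rintro ⟨a, ha, m, rfl⟩
    exact ⟨⟨a, ha⟩, Subgroup.mem_top _, m, rfl⟩

theorem cm_sup (A B : Subgroup G) : cm M (A ⊔ B) ≤ cm M A ⊔ cm M B := by
  set N := cm M A ⊔ cm M B with hN
  let C : Subgroup G := {
    carrier := {g | ∀ m : M, g • m - m ∈ N}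
    one_mem' := fun m => by rw [one_smul, sub_self]; exact zero_mem _
    mul_mem' := by
      intro a b ha hb m
      have h1 := add_mem (ha (b • m)) (hb m)
      have e : a • b • m - b • m + (b • m - m) = (a * b) • m - m := by rw [mul_smul]; abel
      rwa [e] at h1
    inv_mem' := by
      intro a ha m
      have h1 := neg_mem (ha (a⁻¹ • m))
      rw [smul_inv_smul] at h1
      have e : -(m - a⁻¹ • m) = a⁻¹ • m - m := by abel
      rwa [e] at h1 }
  have hC : A ⊔ B ≤ C := by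
    refine sup_le ?_ ?_
    · intro a ha m
      exact AddSubgroup.mem_sup_left (AddSubgroup.subset_closure ⟨a, ha, m, rfl⟩)
    · intro a ha m
      exact AddSubgroup.mem_sup_right (AddSubgroup.subset_closure ⟨a, ha, m, rfl⟩)
  show AddSubgroup.closure _ ≤ N
  rw [AddSubgroup.closure_le]
  rintro _ ⟨g, hg, m, rfl⟩
  exact hC hg m

/-- faithful case -/
theorem p2_faithful (hSQ : StSQ.{u}) (pM : ∀ m : M, p • m = 0) (hX : SE p X)
    (hf : ∀ g : G, (∀ m : M, g • m = m) → g = 1) (hAX : A ≤ X) (hBX : B ≤ X) (hA : IsPGroup p A)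
    (hB : IsPGroup p B) (hB1 : B ≠ ⊥) :
    Nat.card A ^ 2 ≤ (fx M A).index * (fx M B).index ∧
      Nat.card A ^ 2 ≤ Nat.card (cm M A) * Nat.card (cm M B) ∧ Nat.card A ^ 2 ≤ Nat.card M := by
  classical
  by_cases hA1 : A = ⊥
  · subst hA1
    rw [Subgroup.card_bot, one_pow]
    exact ⟨Nat.mul_pos (Nat.pos_of_ne_zero AddSubgroup.index_ne_zero_of_finite)
      (Nat.pos_of_ne_zero AddSubgroup.index_ne_zero_of_finite), Nat.mul_pos Nat.card_pos Nat.card_pos, Nat.card_pos⟩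
  obtain ⟨x, hx⟩ := hX.ne
  obtain ⟨⟨a, ha⟩, ha1⟩ := Subgroup.ne_bot_iff_exists_ne_one.1 hA1
  obtain ⟨⟨b, hb⟩, hb1⟩ := Subgroup.ne_bot_iff_exists_ne_one.1 hB1
  have ha1 : a ≠ 1 := fun h => ha1 (Subtype.ext h)
  have hb1 : b ≠ 1 := fun h => hb1 (Subtype.ext h)
  have hap : ∃ k, a ^ p ^ k = 1 := by
    obtain ⟨k, hk⟩ := hA ⟨a, ha⟩
    exact ⟨k, congrArg Subtype.val hk⟩
  have hbp : ∃ k, b ^ p ^ k = 1 := by
    obtain ⟨k, hk⟩ := hB ⟨b, hb⟩
    exact ⟨k, congrArg Subtype.val hk⟩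
  have hx' : x⁻¹ ∉ X := fun h => hx (by have := inv_mem h; rwa [inv_inv] at this)
  set J : Subgroup G := B ⊔ cj x A with hJ
  have hAJ : cj x A ≤ J := le_sup_right
  have hYse : SE p ((cj x X).subgroupOf J) := by
    refine ⟨⟨⟨b, Subgroup.mem_sup_left hb⟩, fun h => ?_⟩, ?_⟩
    · rw [Subgroup.mem_subgroupOf, mem_cj] at h
      have h1 := hX.se b (hBX hb) hb1 hbp x⁻¹ hx'
      rw [inv_inv] at h1
      exact h1 h
    · rintro q hq hq1 ⟨k, hk⟩ g hg hmem
      rw [Subgroup.mem_subgroupOf, mem_cj] at hq hg hmem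
      refine hX.se _ hq ?_ ⟨k, ?_⟩ _ hg ?_
      · intro h
        apply hq1
        apply Subtype.ext
        have h2 : x * (x⁻¹ * (q : G) * x) * x⁻¹ = 1 := by rw [h]; group
        have e : x * (x⁻¹ * (q : G) * x) * x⁻¹ = q := by group
        rw [e] at h2
        exact h2
      · have h2 : (q : G) ^ p ^ k = 1 := congrArg Subtype.val hk
        have h3 := conj_pow (i := p ^ k) (a := x⁻¹) (b := (q : G))
        rw [inv_inv] at h3
        rw [h3, h2]; group
      · have e : x⁻¹ * (g : G) * x * (x⁻¹ * (q : G) * x) * (x⁻¹ * (g : G) * x)⁻¹ =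
            x⁻¹ * ((g * q * g⁻¹ : J) : G) * x := by push_cast; group
        rw [e]; exact hmem
  set q : J := ⟨x * a * x⁻¹, hAJ (conj_mem_cj ha)⟩ with hq
  have hqY : q ∈ (cj x X).subgroupOf J := Subgroup.mem_subgroupOf.2 (conj_mem_cj (hAX ha))
  have hq1 : q ≠ 1 := by
    intro h
    apply ha1
    have h2 : x * a * x⁻¹ = 1 := congrArg Subtype.val h
    have h3 : x⁻¹ * (x * a * x⁻¹) * x = 1 := by rw [h2]; group
    have e : x⁻¹ * (x * a * x⁻¹) * x = a := by group
    rwa [e] at h3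
  have hqp : ∃ k, q ^ p ^ k = 1 := by
    obtain ⟨k, hk⟩ := hap
    refine ⟨k, Subtype.ext ?_⟩
    show (x * a * x⁻¹) ^ p ^ k = 1
    rw [conj_pow, hk]; group
  have hfJ : ∀ g : J, (∀ m : M, g • m = m) → g = 1 := fun g hg => Subtype.ext (hf g hg)
  have hAp : IsPGroup p ((cj x A).subgroupOf J) := (hA.map _).comap_subtype
  have hcard : Nat.card ((cj x A).subgroupOf J) = Nat.card A := by
    rw [Nat.card_congr (Subgroup.subgroupOfEquivOfLe hAJ).toEquiv, card_cj]
  have h1 := sq_le_index hSQ (M := M) pM hYse hqY hq1 hqp hfJ hAp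
  have h2 := sq_le_comm hSQ (M := M) pM hYse hqY hq1 hqp hfJ hAp
  rw [hcard, fx_top, hJ, fx_sup] at h1
  rw [hcard, cm_top, hJ] at h2
  refine ⟨h1.trans ?_, h2.trans ?_, sq_le hSQ pM hX (hBX hb) hb1 hbp hf hA⟩
  · calc (fx M B ⊓ fx M (cj x A)).index ≤ (fx M B).index * (fx M (cj x A)).index := AddSubgroup.index_inf_le
      _ = (fx M A).index * (fx M B).index := by rw [index_fx_cj, mul_comm]
  · calc Nat.card (cm M (B ⊔ cj x A)) ≤ Nat.card (cm M B ⊔ cm M (cj x A) : AddSubgroup M) :=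
          Nat.card_mono (Set.toFinite _) (cm_sup _ _)
      _ ≤ Nat.card (cm M B) * Nat.card (cm M (cj x A)) := add_card_sup_le _ _
      _ ≤ Nat.card (cm M B) * Nat.card (cm M A) := Nat.mul_le_mul_left _ (card_cm_cj x A)
      _ = _ := mul_comm _ _

/-- kernel inside `X`, nontrivial `p`-elements act nontrivially -/
theorem p2_gen (hSQ : StSQ.{u}) (pM : ∀ m : M, p • m = 0) (hX : SE p X)
    (hf : ∀ g : G, (∀ m : M, g • m = m) → (∃ k, g ^ p ^ k = 1) → g = 1)
    (hK : ∀ g : G, (∀ m : M, g • m = m) → g ∈ X) (hAX : A ≤ X) (hBX : B ≤ X) (hA : IsPGroup p A)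
    (hB : IsPGroup p B) (hB1 : B ≠ ⊥) :
    Nat.card A ^ 2 ≤ (fx M A).index * (fx M B).index ∧
      Nat.card A ^ 2 ≤ Nat.card (cm M A) * Nat.card (cm M B) ∧ Nat.card A ^ 2 ≤ Nat.card M := by
  classical
  set f : G →* Equiv.Perm M := MulAction.toPermHom G M with hfdef
  let := rangeAct G M
  let φ : G →* f.range := f.rangeRestrict
  have hφ : Function.Surjective φ := f.rangeRestrict_surjective
  have hfin : Finite f.range := Finite.of_surjective φ hφ
  have hact : ∀ (g : G) (m : M), (φ g) • m = g • m := fun g m => rfl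
  have hker : ∀ g : G, φ g = 1 → ∀ m : M, g • m = m := by
    intro g hg m
    rw [← hact, hg, one_smul]
  have hKX : φ.ker ≤ X := fun g hg => hK g (hker g hg)
  have hfx : ∀ C : Subgroup G, fx M (C.map φ) = fx M C := by
    intro C
    ext m
    constructor
    · intro h a ha
      rw [← hact]
      exact h _ ⟨a, ha, rfl⟩
    · rintro h _ ⟨a, ha, rfl⟩
      rw [hact]
      exact h a ha
  have hcm : ∀ C : Subgroup G, cm M (C.map φ) = cm M C := by
    intro C
    unfold cm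
    congr 1
    ext x
    constructor
    · rintro ⟨_, ⟨a, ha, rfl⟩, u, rfl⟩
      exact ⟨a, ha, u, by rw [hact]⟩
    · rintro ⟨a, ha, u, rfl⟩
      exact ⟨φ a, ⟨a, ha, rfl⟩, u, by rw [hact]⟩
  have hinj : ∀ C : Subgroup G, IsPGroup p C → ∀ a ∈ C, φ a = 1 → a = 1 := by
    intro C hC a ha ha1
    obtain ⟨k, hk⟩ := hC ⟨a, ha⟩
    exact hf a (hker a ha1) ⟨k, congrArg Subtype.val hk⟩
  have hcard : Nat.card A ≤ Nat.card (A.map φ) := by
    refine Nat.card_le_card_of_injective (fun a : A => (⟨φ a, ⟨a, a.2, rfl⟩⟩ : A.map φ)) ?_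
    intro a b hab
    have h4 : φ (a : G) = φ (b : G) := congrArg Subtype.val hab
    have h5 := hinj A hA _ (mul_mem a.2 (inv_mem b.2)) (by rw [map_mul, map_inv, h4, mul_inv_cancel])
    exact Subtype.ext (mul_inv_eq_one.1 h5)
  have h1 := p2_faithful hSQ (M := M) (A := A.map φ) (B := B.map φ) pM (hX.map hφ hKX) (by
    intro g hg
    apply Subtype.ext
    ext m
    exact hg m) (Subgroup.map_mono hAX) (Subgroup.map_mono hBX) (hA.map φ) (hB.map φ) (by
    intro h
    apply hB1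
    rw [eq_bot_iff]
    intro b hb
    rw [Subgroup.mem_bot]
    refine hinj B hB b hb ?_
    have h2 : φ b ∈ B.map φ := ⟨b, hb, rfl⟩
    rwa [h, Subgroup.mem_bot] at h2)
  rw [hfx, hfx, hcm, hcm] at h1
  exact ⟨(Nat.pow_le_pow_left hcard 2).trans h1.1, (Nat.pow_le_pow_left hcard 2).trans h1.2.1,
    (Nat.pow_le_pow_left hcard 2).trans h1.2.2⟩

variable {I : Subgroup G}

/-- modulo a normal `p`-subgroup `I` acting trivially -/
theorem mod_p2 (hSQ : StSQ.{u}) [I.Normal] (pM : ∀ m : M, p • m = 0) (hX : SEm p I X) (hIp : IsPGroup p I)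
    (hI : ∀ g ∈ I, ∀ m : M, g • m = m)
    (hf : ∀ g : G, (∀ m : M, g • m = m) → (∃ k, g ^ p ^ k = 1) → g ∈ I)
    (hK : ∀ g : G, (∀ m : M, g • m = m) → g ∈ X) (hAX : A ≤ X) (hBX : B ≤ X) (hA : IsPGroup p A)
    (hB : IsPGroup p B) (hB1 : ¬ B ≤ I) :
    (I.relIndex A) ^ 2 ≤ (fx M A).index * (fx M B).index ∧
      (I.relIndex A) ^ 2 ≤ Nat.card (cm M A) * Nat.card (cm M B) ∧ (I.relIndex A) ^ 2 ≤ Nat.card M := by
  classical
  let := modAct M I hI
  let φ : G →* G ⧸ I := QuotientGroup.mk' I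
  have hact : ∀ (g : G) (m : M), (φ g) • m = g • m := fun g m => rfl
  have hSE := hX.quot
  have hfx : ∀ C : Subgroup G, fx M (C.map φ) = fx M C := by
    intro C
    ext m
    constructor
    · intro h a ha
      rw [← hact]
      exact h _ ⟨a, ha, rfl⟩
    · rintro h _ ⟨a, ha, rfl⟩
      rw [hact]
      exact h a ha
  have hcm : ∀ C : Subgroup G, cm M (C.map φ) = cm M C := by
    intro C
    unfold cm
    congr 1
    ext x
    constructor
    · rintro ⟨_, ⟨a, ha, rfl⟩, u, rfl⟩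
      exact ⟨a, ha, u, by rw [hact]⟩
    · rintro ⟨a, ha, u, rfl⟩
      exact ⟨φ a, ⟨a, ha, rfl⟩, u, by rw [hact]⟩
  have hcard : I.relIndex A = Nat.card (A.map φ) := by
    have h1 := Subgroup.relIndex_ker (K := A) φ
    rwa [QuotientGroup.ker_mk'] at h1
  have h1 := p2_gen hSQ (M := M) (A := A.map φ) (B := B.map φ) pM hSE (by
    intro x hx hxp
    obtain ⟨g₀, rfl⟩ := QuotientGroup.mk'_surjective I x
    obtain ⟨g, -, hg, hgp⟩ := exists_lift (X := ⊤) φ (q₀ := g₀) (Subgroup.mem_top _) hxp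
    have h1 : g ∈ I := hf g (fun m => by
      have h2 := hx m
      change φ g₀ • m = m at h2
      rw [← hg] at h2
      exact h2) hgp
    change φ g₀ = 1
    rw [← hg]
    exact (QuotientGroup.eq_one_iff g).2 h1) (by
    intro x hx
    obtain ⟨g, rfl⟩ := QuotientGroup.mk'_surjective I x
    exact ⟨g, hK g hx, rfl⟩) (Subgroup.map_mono hAX) (Subgroup.map_mono hBX) (hA.map φ) (hB.map φ) (by
    intro h
    apply hB1
    intro b hb
    have h2 : φ b ∈ B.map φ := ⟨b, hb, rfl⟩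
    rw [h, Subgroup.mem_bot] at h2
    exact (QuotientGroup.eq_one_iff b).1 h2)
  rw [hfx, hfx, hcm, hcm, ← hcard] at h1
  exact h1

/-- the kernel is inside `X` when there is a big elementary abelian subgroup -/
theorem mod_kernel_le [I.Normal] (hX : SEm p I X) (hI : ∀ g ∈ I, ∀ m : M, g • m = m)
    (hf : ∀ g : G, (∀ m : M, g • m = m) → (∃ k, g ^ p ^ k = 1) → g ∈ I) {A₀ : Subgroup G} (hAX : A₀ ≤ X)
    (hAc : ∀ a ∈ A₀, ∀ b ∈ A₀, a * b * a⁻¹ * b⁻¹ ∈ I) (hAp : ∀ a ∈ A₀, a ^ p ∈ I) (hcard : p < I.relIndex A₀) :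
    ∀ g : G, (∀ m : M, g • m = m) → g ∈ X := by
  classical
  let φ : G →* G ⧸ I := QuotientGroup.mk' I
  have hSE := hX.quot
  -- the image of the kernel
  let K : Subgroup G := (MulAction.toPermHom G M).ker
  have hKm : ∀ g : G, g ∈ K ↔ ∀ m : M, g • m = m := by
    intro g
    rw [MonoidHom.mem_ker]
    constructor
    · intro h m
      exact Equiv.congr_fun h m
    · intro h
      ext m
      exact h m
  have hAc' : ∀ a ∈ A₀.map φ, ∀ b ∈ A₀.map φ, a * b = b * a := by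
    rintro _ ⟨a, ha, rfl⟩ _ ⟨b, hb, rfl⟩
    have h1 : φ (a * b * a⁻¹ * b⁻¹) = 1 := (QuotientGroup.eq_one_iff _).2 (hAc a ha b hb)
    rw [map_mul, map_mul, map_mul, map_inv, map_inv, mul_inv_eq_one, mul_inv_eq_iff_eq_mul] at h1
    exact h1
  have hAp' : ∀ a ∈ A₀.map φ, a ^ p = 1 := by
    rintro _ ⟨a, ha, rfl⟩
    rw [← map_pow]
    exact (QuotientGroup.eq_one_iff _).2 (hAp a ha)
  have hcard' : I.relIndex A₀ = Nat.card (A₀.map φ) := by
    have h1 := Subgroup.relIndex_ker (K := A₀) φ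
    rwa [QuotientGroup.ker_mk'] at h1
  have hcy : ¬ IsCyclic (A₀.map φ) := by
    intro hcy
    obtain ⟨a, ha⟩ := hcy.exists_generator
    have h1 : orderOf a = Nat.card (A₀.map φ) := orderOf_eq_card_of_forall_mem_zpowers ha
    have h2 : orderOf a ∣ p := orderOf_dvd_of_pow_eq_one (Subtype.ext (by simpa using hAp' a a.2))
    have h3 := Nat.le_of_dvd hp.out.pos h2
    rw [h1, ← hcard'] at h3
    omega
  have hKn : (K.map φ).Normal := (inferInstance : K.Normal).map φ (QuotientGroup.mk'_surjective I)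
  have hle : K.map φ ≤ X.map φ := by
    refine hSE.normal_le (Subgroup.map_mono hAX) hAc' hAp' hcy ?_ ?_
    · intro a _
      rw [Subgroup.normalizer_eq_top (K.map φ)]
      trivial
    · intro hdvd
      obtain ⟨⟨x, g₀, hg₀, hgx⟩, hxp⟩ := exists_prime_orderOf_dvd_card' p hdvd
      have h1 : orderOf x = p := by rw [← hxp]; exact (Subgroup.orderOf_mk x _).symm
      have h2 : ∃ k, (φ g₀) ^ p ^ k = 1 := ⟨1, by rw [pow_one, hgx, ← h1, pow_orderOf_eq_one]⟩
      obtain ⟨g, hgK, hg, hgp⟩ := exists_lift (X := K) φ hg₀ h2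
      have h3 : g ∈ I := hf g ((hKm g).1 hgK) hgp
      have h4 : φ g = 1 := (QuotientGroup.eq_one_iff g).2 h3
      rw [hg, hgx] at h4
      rw [h4, orderOf_one] at h1
      exact hp.out.one_lt.ne h1
  intro g hg
  have h1 : φ g ∈ X.map φ := hle ⟨g, (hKm g).2 hg, rfl⟩
  exact mem_of_map (by rw [QuotientGroup.ker_mk']; exact hX.le) h1

/-- `|M : C_M(b)| = |[M, b]|` -/
theorem card_cm_zpowers (b : G) : Nat.card (cm M (Subgroup.zpowers b)) = (fx M (Subgroup.zpowers b)).index := by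
  have h1 : cm M (Subgroup.zpowers b) = (del M b).range := by
    apply le_antisymm
    · unfold cm
      rw [AddSubgroup.closure_le]
      rintro _ ⟨c, hc, m, rfl⟩
      -- the set of `c` with `c • m - m ∈ range` for all `m`
      let C : Subgroup G := {
        carrier := {g | ∀ m : M, g • m - m ∈ (del M b).range}
        one_mem' := fun m => by rw [one_smul, sub_self]; exact zero_mem _
        mul_mem' := by
          intro a b ha hb m
          have h1 := add_mem (ha (b • m)) (hb m)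
          have e : a • b • m - b • m + (b • m - m) = (a * b) • m - m := by rw [mul_smul]; abel
          rwa [e] at h1
        inv_mem' := by
          intro a ha m
          have h1 := neg_mem (ha (a⁻¹ • m))
          rw [smul_inv_smul] at h1
          have e : -(m - a⁻¹ • m) = a⁻¹ • m - m := by abel
          rwa [e] at h1 }
      have h2 : Subgroup.zpowers b ≤ C := (Subgroup.zpowers_le).2 fun m => ⟨m, rfl⟩
      exact h2 hc m
    · rintro _ ⟨m, rfl⟩
      exact AddSubgroup.subset_closure ⟨b, Subgroup.mem_zpowers b, m, rfl⟩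
  have h2 : fx M (Subgroup.zpowers b) = (del M b).ker := by
    ext m
    rw [AddMonoidHom.mem_ker, del_apply, sub_eq_zero]
    constructor
    · intro h; exact h b (Subgroup.mem_zpowers b)
    · intro h
      have h3 : Subgroup.zpowers b ≤ MulAction.stabilizer G m := (Subgroup.zpowers_le).2 h
      exact fun c hc => h3 hc
  rw [h1, h2]
  exact (AddSubgroup.index_ker _).symm

end P2

end Cfsg.Agent.H218.TE
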